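import Cfsg.Agent.H175.LD.Main33
import Cfsg.Agent.H915.LD
import Cfsg.Agent.H906.MatCoef
import Cfsg.Agent.H60.MultA
import Cfsg.Agent.LieClassical.FieldTransfer

/-!
# Cores isomorphic to `L₃(3)` in degree at most 12 (helper175)
-/

set_option autoImplicit false
set_option linter.unusedSectionVars false

namespace Cfsg.Agent.H175.L33

open Matrix Cfsg Cfsg.Geo Cfsg.Agent.H915.LD
open Cfsg.Agent.H175.LD (X3 Irr FB NoP P1s P2s cv)

universe u v

variable {ι : Type} [Fintype ι] [DecidableEq ι] {F : Type u} [Field F] [Finite F] {P : Subgroup (GL ι F)}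

theorem center_X3 : Subgroup.center X3 = ⊥ := by
  rw [Subgroup.eq_bot_iff_forall]
  intro A hA
  rw [Matrix.SpecialLinearGroup.mem_center_iff] at hA
  obtain ⟨r, hr, hrA⟩ := hA
  have hr1 : r = 1 := by
    rw [Fintype.card_fin] at hr
    have key : ∀ r : ZMod 3, r ^ 3 = 1 → r = 1 := by decide
    exact key r hr
  apply Subtype.ext
  rw [← hrA, hr1]
  simp

/-- `PSL₃(K) ≃ SL₃(3)` for `|K| = 3` -/
theorem nonempty_X3 {K : Type v} [Field K] [Fintype K] (hK : Fintype.card K = 3) :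
    Nonempty (Matrix.ProjectiveSpecialLinearGroup (Fin 3) K ≃* X3) :=
  ⟨(LieClassical.FieldTransfer.pslCongr (ZMod.ringEquivOfPrime K (by norm_num) hK)).symm.trans
    ((QuotientGroup.quotientMulEquivOfEq center_X3).trans QuotientGroup.quotientBot)⟩

/-- `P ≃ SL₃(3)` -/
theorem exists_equiv (hC : Core P) {K : Type v} [Field K] [Fintype K] (hK : Fintype.card K = 3)
    (e : Soc P ≃* Matrix.ProjectiveSpecialLinearGroup (Fin 3) K) :
    (scalars ι F).subgroupOf P = ⊥ ∧ Nonempty (X3 ≃* P) := by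
  have hA := H60.MultA.hasMultiplier_PSL (F := K) (n := 3) (by
    rw [Nat.card_eq_fintype_card, hK]
    exact ⟨by norm_num, by norm_num, by decide⟩)
  rw [Nat.card_eq_fintype_card, hK] at hA
  have hcop : (Nat.card (Multiplicative (ZMod (Nat.gcd 3 (3 - 1))))).Coprime (Fintype.card ι) := by
    have : Nat.gcd 3 (3 - 1) = 1 := by decide
    rw [this]
    simp
  refine ⟨hC.scalars_eq_bot e hA hcop, ?_⟩
  obtain ⟨e', -⟩ := hC.equiv_of_coprime e hA hcop
  obtain ⟨e''⟩ := nonempty_X3 hK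
  exact ⟨(e'.trans e'').symm⟩

/-- the representation -/
noncomputable def rep (φ : X3 ≃* P) : X3 →* ((ι → F) →ₗ[F] (ι → F)) :=
  ((Matrix.toLinAlgEquiv' (R := F) (n := ι)).toAlgHom.toRingHom.toMonoidHom).comp
    ((Units.coeHom (Matrix ι ι F)).comp (P.subtype.comp φ.toMonoidHom))

theorem rep_apply (φ : X3 ≃* P) (g : X3) (x : ι → F) : rep φ g x = ((φ g : P) : GL ι F).1 *ᵥ x := rfl

theorem rep_irr (hC : Core P) (φ : X3 ≃* P) : Irr (rep φ) := by
  intro W hW
  refine hC.absIrred.1 W ?_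
  rintro _ ⟨g, hg, rfl⟩
  rintro _ ⟨x, hx, rfl⟩
  have h1 := hW (φ.symm ⟨g, hg⟩) x hx
  rw [rep_apply, MulEquiv.apply_symm_apply] at h1
  exact h1

theorem rep_nt (hC : Core P) (φ : X3 ≃* P) : ∃ g x, rep φ g x ≠ x := by
  by_contra hcon
  push Not at hcon
  apply hC.nonabelian
  have h1 : ∀ g : P, g = 1 := by
    intro g
    apply Subtype.ext
    apply Units.ext
    have h2 := hcon (φ.symm g)
    rw [Subgroup.coe_one, Units.val_one]
    ext i j
    have h3 := congrFun (h2 (Pi.single j 1)) i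
    rw [rep_apply, MulEquiv.apply_symm_apply, Matrix.mulVec_single_one, Matrix.col_apply] at h3
    rw [h3, Pi.single_apply, Matrix.one_apply]
  have h2 : Subsingleton (Soc P) := by
    constructor
    intro a b
    induction a using QuotientGroup.induction_on with
    | H a =>
      induction b using QuotientGroup.induction_on with
      | H b => rw [h1 a, h1 b]
  exact ⟨⟨fun a b => Subsingleton.elim _ _⟩⟩

theorem rep_trace (φ : X3 ≃* P) (g : X3) : LinearMap.trace F (ι → F) (rep φ g) = tr ((φ g : P) : GL ι F) := by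
  have : rep φ g = Matrix.toLin' (((φ g : P) : GL ι F).1) := by
    ext x i
    rfl
  rw [this, Matrix.trace_toLin'_eq]
  rfl

theorem three_ne {p : ℕ} [hp : Fact p.Prime] [CharP F p] (hp3 : p ≠ 3) : (3 : F) ≠ 0 := by
  intro h
  have h1 : ((3 : ℕ) : F) = 0 := by exact_mod_cast h
  rw [CharP.cast_eq_zero_iff F p] at h1
  exact hp3 ((Nat.prime_dvd_prime_iff_eq hp.out (by norm_num)).1 h1)

/-- the matrix representation -/
def mrep (φ : X3 ≃* P) : X3 →* Matrix ι ι F := (Units.coeHom (Matrix ι ι F)).comp (P.subtype.comp φ.toMonoidHom)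

theorem span_mrep (hC : Core P) (φ : X3 ≃* P) : Submodule.span F (Set.range (mrep φ)) = ⊤ := by
  rw [← Cfsg.Agent.H920.span_eq_top hC.absIrred]
  congr 1
  ext X
  constructor
  · rintro ⟨g, rfl⟩
    exact ⟨_, (φ g).2, rfl⟩
  · rintro ⟨g, hg, rfl⟩
    refine ⟨φ.symm ⟨g, hg⟩, ?_⟩
    change ((φ (φ.symm ⟨g, hg⟩) : P) : GL ι F).1 = g.1
    rw [MulEquiv.apply_symm_apply]

theorem wl_inv : ∀ w, ∃ w' d, (Cfsg.Agent.H175.LD.wl w)⁻¹ = Cfsg.Agent.H175.LD.wl w' * Cfsg.Agent.H175.LD.dg d ∧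
    Cfsg.Agent.H175.LD.ln w' = Cfsg.Agent.H175.LD.ln w := by
  decide +kernel

section coefinv

open Cfsg.Agent.H175.LD (e0 D0 U wl dg ln rmul rinv' e0_U e0_z1 e0_z2 Up up_eq bruhat e0_mem)

variable {V : Type*} [AddCommGroup V] [Module F V] [FiniteDimensional F V] {ρ : X3 →* (V →ₗ[F] V)}

theorem dg_up (d : Fin 4) : Up (dg d) := by
  revert d; decide

theorem e0_dg (d : Fin 4) (x : V) : e0 ρ (ρ (dg d) x) = ρ (dg d) (e0 ρ x) := by
  fin_cases d
  · change e0 ρ (ρ 1 x) = ρ 1 (e0 ρ x)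
    rw [LD.rone, LD.rone]
  · exact e0_z1 ρ x
  · exact e0_z2 ρ x
  · change e0 ρ (ρ LD.z12 x) = ρ LD.z12 (e0 ρ x)
    rw [← LD.z1_z2, rmul, rmul, e0_z1, e0_z2]

theorem e0_U_inv (i j k : ZMod 3) (x : V) : e0 ρ (ρ (U i j k)⁻¹ x) = e0 ρ x := by
  rw [← e0_U ρ i j k (ρ (U i j k)⁻¹ x), rinv']

theorem coef_inv (h3 : (3 : F) ≠ 0) (hP : NoP ρ) {v : V} (h : FB ρ v) (hD : D0 ρ ≤ Submodule.span F {v}) (g : X3) :
    e0 ρ (ρ g⁻¹ v) = e0 ρ (ρ g v) := by
  obtain ⟨i, j, k, w, b, hb, rfl⟩ := bruhat g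
  have h1 : e0 ρ (ρ (U i j k * wl w * b) v) = (-(3 : F)⁻¹) ^ ln w • v :=
    h.coef' h3 hP (i := i) (j := j) (k := k) (by rwa [inv_mul_cancel_left])
  obtain ⟨i', j', k', d, rfl⟩ := up_eq hb
  obtain ⟨w', d', hw, hl⟩ := wl_inv w
  have hdd : (dg d)⁻¹ = dg d := inv_eq_of_mul_eq_one_right (LD.dg_sq d)
  have hU : ρ (U i j k)⁻¹ v = v := by
    apply LD.rinj ρ (U i j k)
    rw [rinv', h.up (LD.U_up i j k)]
  have hfix : ∀ y, ρ (dg d) (e0 ρ y) = e0 ρ y := by
    intro y
    obtain ⟨c, hc⟩ := Submodule.mem_span_singleton.1 (hD (e0_mem ρ y))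
    rw [← hc, map_smul, h.up (dg_up d)]
  rw [h1, show (U i j k * wl w * (U i' j' k' * dg d))⁻¹ = (dg d)⁻¹ * ((U i' j' k')⁻¹ * ((wl w)⁻¹ * (U i j k)⁻¹)) by group,
    rmul, rmul, rmul, hU, hdd, e0_dg, e0_U_inv, hfix, hw, rmul, h.up (dg_up d'), h.coef h3 hP, hl]

/-- the functional -/
theorem exists_functional {v : V} (hv : v ≠ 0) (hD : D0 ρ ≤ Submodule.span F {v}) :
    ∃ f : V →ₗ[F] F, ∀ x, e0 ρ x = f x • v := by
  let A : V →ₗ[F] Submodule.span F {v} := (e0 ρ).codRestrict _ (fun x => hD (e0_mem ρ x))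
  let B := (LinearEquiv.toSpanNonzeroSingleton F V v hv).symm
  refine ⟨B.toLinearMap ∘ₗ A, fun x => ?_⟩
  have h1 : (LinearEquiv.toSpanNonzeroSingleton F V v hv) (B (A x)) = A x := LinearEquiv.apply_symm_apply _ _
  have h2 := congrArg Subtype.val h1
  rw [LinearEquiv.toSpanNonzeroSingleton_apply] at h2
  exact h2.symm

end coefinv

/-- **Degree 11.** -/
theorem eleven (hC : Core P) (φ : X3 ≃* P) (p : ℕ) [hp : Fact p.Prime] [CharP F p] (hp3 : p ≠ 3)
    (hP : NoP (rep φ)) {v : ι → F} (hfb : FB (rep φ) v) (hv : v ≠ 0) : SD P ∧ Fr P p := by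
  have h3 : (3 : F) ≠ 0 := three_ne hp3
  have hI := rep_irr hC φ
  have hD := LD.D0_le h3 hI hP hfb hv
  obtain ⟨f, hf⟩ := exists_functional hv hD
  -- the vector of the functional
  let l : ι → F := fun j => f (Pi.single j 1)
  have hl : ∀ x : ι → F, l ⬝ᵥ x = f x := by
    intro x
    have h1 : x = ∑ j, x j • Pi.single j (1 : F) := by
      funext i
      rw [Finset.sum_apply, Finset.sum_eq_single i]
      · simp
      · intro j _ hj; simp [hj.symm]
      · intro h; exact absurd (Finset.mem_univ _) h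
    conv_rhs => rw [h1]
    rw [map_sum, dotProduct]
    refine Finset.sum_congr rfl fun j _ => ?_
    rw [map_smul, smul_eq_mul, mul_comm]
  have hfv : f v = 1 := by
    have h1 := hf v
    rw [LD.e0_fix _ h3 hfb.mem] at h1
    have h2 : (1 - f v) • v = 0 := by rw [sub_smul, one_smul, ← h1, sub_self]
    have h4 := (smul_eq_zero.1 h2).resolve_right hv
    linear_combination -h4
  have hl0 : l ≠ 0 := by
    intro h0
    have := hl v
    rw [h0, zero_dotProduct, hfv] at this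
    exact zero_ne_one this
  have hcancel : ∀ a b : F, a • v = b • v → a = b := fun a b hab => by
    have : (a - b) • v = 0 := by rw [sub_smul, hab, sub_self]
    exact sub_eq_zero.1 ((smul_eq_zero.1 this).resolve_right hv)
  have hval : ∀ g, l ⬝ᵥ (mrep φ g *ᵥ v) = f (rep φ g v) := fun g => hl _
  have hm : ∀ g, ∃ m : ℕ, f (rep φ g v) = (-(3 : F)⁻¹) ^ m := by
    intro g
    obtain ⟨m, hm⟩ := hfb.coef_all h3 hP g
    rw [hf] at hm
    exact ⟨m, hcancel _ _ hm⟩
  have htr : ∀ g : X3, (mrep φ g).trace = tr ((φ g : P) : GL ι F) := fun g => rfl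
  constructor
  · intro g hg
    have h1 := H906.trace_inv_of_coef (span_mrep hC φ) (RingEquiv.refl F) hl0 hv one_ne_zero (fun g => by
      rw [hval, hval, one_mul, RingEquiv.refl_apply]
      apply hcancel
      rw [← hf, ← hf, coef_inv h3 hP hfb hD]) (φ.symm ⟨g, hg⟩)
    rw [RingEquiv.refl_apply, htr, htr, map_inv, MulEquiv.apply_symm_apply] at h1
    exact h1.symm
  · intro g hg
    let σ : F ≃+* F := frobeniusEquiv F p
    have hσ : ∀ x, σ x = x ^ p := fun x => rfl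
    have h1 := H906.trace_fixed_of_coef (span_mrep hC φ) σ hl0 hv one_ne_zero (fun g => by
      obtain ⟨m, hm⟩ := hm g
      rw [hval, one_mul, hm, map_pow, map_neg, map_inv₀, map_ofNat]) (φ.symm ⟨g, hg⟩)
    rw [hσ, htr, MulEquiv.apply_symm_apply] at h1
    exact h1

/-- **Cores isomorphic to `L₃(3)`.** -/
theorem l33 (hC : Core P) (p : ℕ) [hp : Fact p.Prime] [CharP F p] (hp3 : p ≠ 3) {K : Type v} [Field K] [Fintype K]
    (hK : Fintype.card K = 3) (e : Soc P ≃* Matrix.ProjectiveSpecialLinearGroup (Fin 3) K) (hn : Fintype.card ι ≤ 12) :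
    (scalars ι F).subgroupOf P = ⊥ ∧ SD P ∧ Fr P p ∧ ((Fintype.card ι = 11 ∧ p = 13) ∨ Fintype.card ι = 12) := by
  obtain ⟨hs, ⟨φ⟩⟩ := exists_equiv hC hK e
  have h3 : (3 : F) ≠ 0 := three_ne hp3
  have hfr : Module.finrank F (ι → F) = Fintype.card ι := Module.finrank_fintype_fun_eq_card F
  refine ⟨hs, ?_⟩
  rcases LD.main h3 (rep_irr hC φ) (rep_nt hC φ) (by rw [hfr]; exact hn) with
    ⟨h11, h13, hP, v, hfb, hv⟩ | ⟨h12, K', hK', v, hv0, hv, hsum⟩
  · have hp13 : p = 13 := by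
      have h1 : ((13 : ℕ) : F) = 0 := by exact_mod_cast h13
      rw [CharP.cast_eq_zero_iff F p] at h1
      exact (Nat.prime_dvd_prime_iff_eq hp.out (by norm_num)).1 h1
    obtain ⟨h1, h2⟩ := eleven hC φ p hp3 hP hfb hv
    exact ⟨h1, h2, Or.inl ⟨by rw [← hfr, h11], hp13⟩⟩
  · have hidx : K'.index = 13 := by
      rcases hK' with rfl | rfl
      · exact LD.index_P1
      · exact LD.index_P2
    have ht := fun g => LD.trace_twelve (rep_irr hC φ) h12 hidx hv0 hv hsum g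
    have hti := fun g => LD.trace_twelve_inv (rep_irr hC φ) h12 hidx hv0 hv hsum g
    refine ⟨fun g hg => ?_, fun g hg => ?_, Or.inr (by rw [← hfr, h12])⟩
    · have h1 := hti (φ.symm ⟨g, hg⟩)
      rw [rep_trace, rep_trace, map_inv, MulEquiv.apply_symm_apply] at h1
      exact h1
    · have h1 := ht (φ.symm ⟨g, hg⟩)
      rw [rep_trace, MulEquiv.apply_symm_apply] at h1
      change tr g = _ at h1
      rw [h1, sub_pow_char, one_pow]
      congr 1
      exact map_natCast (frobenius F p) _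

end Cfsg.Agent.H175.L33
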