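import Mathlib

/-!
# Elements of `SL₃(3)` (helper175)

`U i j k`, `L i j k` unitriangular, `n1`, `n2`, `s12`, `s21`, `s0` monomial, `z1`, `z2`, `z12` diagonal; `bruhat`.
-/

set_option autoImplicit false

namespace Cfsg.Agent.H175.LD

open Matrix

/-- `SL₃(3)` -/
abbrev X3 := SpecialLinearGroup (Fin 3) (ZMod 3)

/-- upper unitriangular matrices -/
def U (i j k : ZMod 3) : X3 := ⟨!![1, i, k; 0, 1, j; 0, 0, 1], by simp [Matrix.det_fin_three]⟩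

/-- lower unitriangular matrices -/
def L (i j k : ZMod 3) : X3 := ⟨!![1, 0, 0; i, 1, 0; k, j, 1], by simp [Matrix.det_fin_three]⟩

def n1 : X3 := ⟨!![0, 1, 0; -1, 0, 0; 0, 0, 1], by decide⟩
def n2 : X3 := ⟨!![1, 0, 0; 0, 0, 1; 0, -1, 0], by decide⟩
def s21 : X3 := ⟨!![0, 1, 0; 0, 0, 1; 1, 0, 0], by decide⟩
def s12 : X3 := ⟨!![0, 0, 1; -1, 0, 0; 0, -1, 0], by decide⟩
def s0 : X3 := ⟨!![0, 0, 1; 0, -1, 0; 1, 0, 0], by decide⟩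
def z1 : X3 := ⟨!![-1, 0, 0; 0, -1, 0; 0, 0, 1], by decide⟩
def z2 : X3 := ⟨!![1, 0, 0; 0, -1, 0; 0, 0, -1], by decide⟩
def z12 : X3 := ⟨!![-1, 0, 0; 0, 1, 0; 0, 0, -1], by decide⟩

theorem U_mul (i j k i' j' k' : ZMod 3) : U i j k * U i' j' k' = U (i + i') (j + j') (k + k' + i * j') := by
  apply Subtype.ext
  change !![1, i, k; 0, 1, j; 0, 0, 1] * !![1, i', k'; 0, 1, j'; 0, 0, 1] =
    !![1, i + i', k + k' + i * j'; 0, 1, j + j'; 0, 0, 1]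
  ext r s
  fin_cases r <;> fin_cases s <;> simp [Matrix.mul_apply, Fin.sum_univ_three] <;> ring

theorem L_mul (i j i' j' : ZMod 3) : L i 0 j * L i' 0 j' = L (i + i') 0 (j + j') := by
  apply Subtype.ext
  change !![1, 0, 0; i, 1, 0; j, 0, 1] * !![1, 0, 0; i', 1, 0; j', 0, 1] =
    !![1, 0, 0; i + i', 1, 0; j + j', 0, 1]
  ext r s
  fin_cases r <;> fin_cases s <;> simp [Matrix.mul_apply, Fin.sum_univ_three]

theorem U_zero : U 0 0 0 = 1 := by decide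
theorem L_zero : L 0 0 0 = 1 := by decide

theorem n1_sq : n1 * n1 = z1 := by decide
theorem n2_sq : n2 * n2 = z2 := by decide
theorem z1_sq : z1 * z1 = 1 := by decide
theorem z2_sq : z2 * z2 = 1 := by decide
theorem z12_sq : z12 * z12 = 1 := by decide
theorem z1_z2 : z1 * z2 = z12 := by decide
theorem z2_z1 : z2 * z1 = z12 := by decide
theorem n2_n1 : n2 * n1 = s21 := by decide
theorem n1_n2 : n1 * n2 = s12 := by decide
theorem n1_s21 : n1 * s21 = s0 := by decide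
theorem n2_s12 : n2 * s12 = s0 := by decide
theorem s21_n2 : s21 * n2 = s0 := by decide
theorem s0_sq : s0 * s0 = 1 := by decide

/-- diagonal -/
def dg (k : Fin 4) : X3 := ![1, z1, z2, z12] k

theorem dg_sq : ∀ k, dg k * dg k = 1 := by decide

/-- first column -/
theorem col1 : ∀ x y z : ZMod 3, ¬ (x = 0 ∧ y = 0 ∧ z = 0) → ∃ i j k : ZMod 3, ∃ w : Fin 3,
    ((U i j k * ![1, n1, s21] w)⁻¹.1 *ᵥ ![x, y, z]) 1 = 0 ∧ ((U i j k * ![1, n1, s21] w)⁻¹.1 *ᵥ ![x, y, z]) 2 = 0 := by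
  decide +kernel

theorem col2 : ∀ x y : ZMod 3, ¬ (x = 0 ∧ y = 0) → ∃ j : ZMod 3, ∃ w : Fin 2,
    (∀ x0 : ZMod 3, ((U 0 j 0 * ![1, n2] w)⁻¹.1 *ᵥ ![x0, x, y]) 2 = 0) ∧
    (∀ x0 : ZMod 3, ((U 0 j 0 * ![1, n2] w)⁻¹.1 *ᵥ ![x0, 0, 0]) 1 = 0) ∧
    (∀ x0 : ZMod 3, ((U 0 j 0 * ![1, n2] w)⁻¹.1 *ᵥ ![x0, 0, 0]) 2 = 0) := by
  decide +kernel

theorem diag : ∀ d1 d2 d3 : ZMod 3, d1 * d2 * d3 = 1 → ∃ k, (dg k).1 = !![d1, 0, 0; 0, d2, 0; 0, 0, d3] := by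
  decide +kernel

theorem sq_one : ∀ d1 d2 d3 : ZMod 3, d1 * d2 * d3 = 1 → d1 * d1 = 1 ∧ d2 * d2 = 1 ∧ d3 * d3 = 1 := by
  decide

/-- upper triangular elements -/
def Up (b : X3) : Prop := b.1 1 0 = 0 ∧ b.1 2 0 = 0 ∧ b.1 2 1 = 0

theorem up_eq {b : X3} (h : Up b) : ∃ i j k : ZMod 3, ∃ d, b = U i j k * dg d := by
  obtain ⟨h1, h2, h3⟩ := h
  have e : b.1 = !![b.1 0 0, b.1 0 1, b.1 0 2; 0, b.1 1 1, b.1 1 2; 0, 0, b.1 2 2] := by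
    ext r s
    fin_cases r <;> fin_cases s
    · rfl
    · rfl
    · rfl
    · exact h1
    · rfl
    · rfl
    · exact h2
    · exact h3
    · rfl
  have hdet : b.1 0 0 * b.1 1 1 * b.1 2 2 = 1 := by
    have := b.2
    rw [e, Matrix.det_fin_three] at this
    simpa using this
  obtain ⟨q1, q2, q3⟩ := sq_one _ _ _ hdet
  obtain ⟨d, hd⟩ := diag _ _ _ hdet
  refine ⟨b.1 0 1 * b.1 1 1, b.1 1 2 * b.1 2 2, b.1 0 2 * b.1 2 2, d, ?_⟩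
  have h5 : b * dg d = U (b.1 0 1 * b.1 1 1) (b.1 1 2 * b.1 2 2) (b.1 0 2 * b.1 2 2) := by
    apply Subtype.ext
    change b.1 * (dg d).1 = !![1, b.1 0 1 * b.1 1 1, b.1 0 2 * b.1 2 2; 0, 1, b.1 1 2 * b.1 2 2; 0, 0, 1]
    rw [hd]
    ext r s
    fin_cases r <;> fin_cases s <;> simp [Matrix.mul_apply, Fin.sum_univ_three, q1, q2, q3, h1, h2, h3]
  rw [← h5, mul_assoc, dg_sq, mul_one]

theorem mulVec_col (g h : X3) (s : Fin 3) (r : Fin 3) :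
    (g.1 *ᵥ ![h.1 0 s, h.1 1 s, h.1 2 s]) r = (g * h).1 r s := by
  change (g.1 *ᵥ ![h.1 0 s, h.1 1 s, h.1 2 s]) r = (g.1 * h.1) r s
  rw [Matrix.mul_apply, Matrix.mulVec, dotProduct]
  simp [Fin.sum_univ_three]

theorem weyl_b : ∀ (w : Fin 3) (j : ZMod 3), ![1, n1, s21] w * U 0 j 0 =
    ![U 0 j 0, U 0 0 j, U j 0 0] w * ![1, n1, s21] w := by
  decide +kernel

/-- the Weyl group -/
def wl (k : Fin 6) : X3 := ![1, n1, n2, s12, s21, s0] k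

theorem wl_mul : ∀ (w : Fin 3) (w' : Fin 2), ∃ k, ![1, n1, s21] w * ![1, n2] w' = wl k := by
  decide +kernel

/-- **Bruhat decomposition** -/
theorem bruhat (g : X3) : ∃ i j k : ZMod 3, ∃ w b, Up b ∧ g = U i j k * wl w * b := by
  have hc1 : ¬ (g.1 0 0 = 0 ∧ g.1 1 0 = 0 ∧ g.1 2 0 = 0) := by
    rintro ⟨h1, h2, h3⟩
    have := g.2
    rw [Matrix.det_fin_three, h1, h2, h3] at this
    simp at this
  obtain ⟨i, j, k, w, h1, h2⟩ := col1 _ _ _ hc1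
  rw [mulVec_col] at h1 h2
  set p := (U i j k * ![1, n1, s21] w)⁻¹ * g with hp
  have hc2 : ¬ (p.1 1 1 = 0 ∧ p.1 2 1 = 0) := by
    rintro ⟨h3, h4⟩
    have := p.2
    rw [Matrix.det_fin_three, h1, h2, h3, h4] at this
    simp at this
  obtain ⟨j', w', h3, h4, h5⟩ := col2 _ _ hc2
  have h3' := h3 (p.1 0 1)
  rw [mulVec_col] at h3'
  set b := (U 0 j' 0 * ![1, n2] w')⁻¹ * p with hb
  obtain ⟨m, hm⟩ := wl_mul w w'
  have hU : ∃ i₂ j₂ k₂, ![1, n1, s21] w * U 0 j' 0 = U i₂ j₂ k₂ * ![1, n1, s21] w := by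
    have := weyl_b w j'
    fin_cases w
    · exact ⟨_, _, _, this⟩
    · exact ⟨_, _, _, this⟩
    · exact ⟨_, _, _, this⟩
  obtain ⟨i₂, j₂, k₂, hw2⟩ := hU
  refine ⟨i + i₂, j + j₂, k + k₂ + i * j₂, m, b, ⟨?_, ?_, h3'⟩, ?_⟩
  · rw [← mulVec_col, h1, h2]
    exact h4 _
  · rw [← mulVec_col, h1, h2]
    exact h5 _
  · rw [hb, hp, ← U_mul, ← hm]
    have : U i j k * U i₂ j₂ k₂ * (![1, n1, s21] w * ![1, n2] w') = U i j k * ![1, n1, s21] w * (U 0 j' 0 * ![1, n2] w') := by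
      rw [← mul_assoc (U i j k * U i₂ j₂ k₂), mul_assoc (U i j k) (U i₂ j₂ k₂) _, ← hw2]
      group
    rw [this]
    group

/-- every element is `u w u' d` -/
theorem bruhat' (g : X3) : ∃ i j k i' j' k' : ZMod 3, ∃ w d, g = U i j k * wl w * (U i' j' k' * dg d) := by
  obtain ⟨i, j, k, w, b, hb, rfl⟩ := bruhat g
  obtain ⟨i', j', k', d, rfl⟩ := up_eq hb
  exact ⟨i, j, k, i', j', k', w, d, rfl⟩

theorem U_pow : ∀ i j k : ZMod 3, U i j k = U 1 0 0 ^ i.val * U 0 1 0 ^ j.val * U 0 0 1 ^ (k - i * j).val := by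
  decide +kernel

theorem U_mem {N : Subgroup X3} (ha : U 1 0 0 ∈ N) (hb : U 0 1 0 ∈ N) (hc : U 0 0 1 ∈ N) (i j k : ZMod 3) :
    U i j k ∈ N := by
  rw [U_pow]
  exact N.mul_mem (N.mul_mem (N.pow_mem ha _) (N.pow_mem hb _)) (N.pow_mem hc _)

theorem U_mem' {N : Subgroup X3} (ha : U 1 0 0 ∈ N) (hb : U 0 1 0 ∈ N) (i j k : ZMod 3) : U i j k ∈ N := by
  refine U_mem ha hb ?_ i j k
  have : U 0 0 1 = (U 0 1 0 * U 1 0 0)⁻¹ * (U 1 0 0 * U 0 1 0) := by decide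
  rw [this]
  exact N.mul_mem (N.inv_mem (N.mul_mem hb ha)) (N.mul_mem ha hb)

theorem wl_mem {N : Subgroup X3} (h1 : n1 ∈ N) (h2 : n2 ∈ N) (k : Fin 6) : wl k ∈ N := by
  fin_cases k
  · exact N.one_mem
  · exact h1
  · exact h2
  · change s12 ∈ N; rw [← n1_n2]; exact N.mul_mem h1 h2
  · change s21 ∈ N; rw [← n2_n1]; exact N.mul_mem h2 h1
  · change s0 ∈ N; rw [← n1_s21, ← n2_n1]; exact N.mul_mem h1 (N.mul_mem h2 h1)

theorem dg_mem {N : Subgroup X3} (h1 : z1 ∈ N) (h2 : z2 ∈ N) (k : Fin 4) : dg k ∈ N := by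
  fin_cases k
  · exact N.one_mem
  · exact h1
  · exact h2
  · change z12 ∈ N; rw [← z1_z2]; exact N.mul_mem h1 h2

theorem gen {N : Subgroup X3} (ha : U 1 0 0 ∈ N) (hb : U 0 1 0 ∈ N) (h1 : n1 ∈ N) (h2 : n2 ∈ N) (g : X3) : g ∈ N := by
  obtain ⟨i, j, k, i', j', k', w, d, rfl⟩ := bruhat' g
  refine N.mul_mem (N.mul_mem (U_mem' ha hb _ _ _) (wl_mem h1 h2 _)) (N.mul_mem (U_mem' ha hb _ _ _) (dg_mem ?_ ?_ _))
  · rw [← n1_sq]; exact N.mul_mem h1 h1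
  · rw [← n2_sq]; exact N.mul_mem h2 h2

/-- `SL₃(3)` is the normal closure of a root element. -/
theorem gen_normal {N : Subgroup X3} [hN : N.Normal] (ha : U 1 0 0 ∈ N) (g : X3) : g ∈ N := by
  have hc : U 0 0 1 ∈ N := by
    rw [show U 0 0 1 = n2⁻¹ * U 1 0 0 * n2⁻¹⁻¹ by decide]
    exact hN.conj_mem _ ha _
  have hb : U 0 1 0 ∈ N := by
    rw [show U 0 1 0 = (n1 * z1) * U 0 0 1 * (n1 * z1)⁻¹ by decide]
    exact hN.conj_mem _ hc _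
  refine gen ha hb ?_ ?_ g
  · rw [show n1 = U 1 0 0 * (n1 * U 1 0 0 * n1⁻¹) * U 1 0 0 by decide]
    exact N.mul_mem (N.mul_mem ha (hN.conj_mem _ ha _)) ha
  · rw [show n2 = U 0 1 0 * (n2 * U 0 1 0 * n2⁻¹) * U 0 1 0 by decide]
    exact N.mul_mem (N.mul_mem hb (hN.conj_mem _ hb _)) hb

end Cfsg.Agent.H175.LD
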