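import Cfsg.Agent.H175.LD.Four
import Cfsg.Agent.H175.LD.S33

/-!
# Dimensions of fixed spaces in representations of `SL₃(3)` (helper175)

`dims` : `n + 12 d = 5 w + 8 w₃`; `trivial_of_le` : representations of degree at most 9 are trivial;
`cases` : in degree at most 12, `n = 10 + d`, `w = 2 + d`, `w₃ = d ≤ 2`.
-/

set_option autoImplicit false
set_option linter.unusedSectionVars false

namespace Cfsg.Agent.H175.LD

open Module

section

variable {F : Type*} [Field F] {V : Type*} [AddCommGroup V] [Module F V]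
variable (ρ : X3 →* (V →ₗ[F] V))

theorem rmul (g h : X3) (x : V) : ρ (g * h) x = ρ g (ρ h x) := by rw [map_mul]; rfl

theorem rone (x : V) : ρ 1 x = x := by rw [map_one]; rfl

theorem rinv (g : X3) (x : V) : ρ g⁻¹ (ρ g x) = x := by rw [← rmul, inv_mul_cancel, rone]

theorem rinv' (g : X3) (x : V) : ρ g (ρ g⁻¹ x) = x := by rw [← rmul, mul_inv_cancel, rone]

theorem rinj (g : X3) : Function.Injective (ρ g) := Function.LeftInverse.injective (rinv ρ g)

/-- fixed vectors of an element -/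
abbrev Fr (g : X3) : Submodule F V := Fk (ρ g)

theorem mem_Fr {g : X3} {x : V} : x ∈ Fr ρ g ↔ ρ g x = x := Iff.rfl

/-- `A = U 1 0 0` etc. -/
abbrev Da : Submodule F V := Fr ρ (U 1 0 0)
abbrev Db : Submodule F V := Fr ρ (U 0 1 0)
abbrev Dc : Submodule F V := Fr ρ (U 0 0 1)

/-- the fixed vectors of the Sylow subgroup -/
abbrev D0 : Submodule F V := Dc ρ ⊓ (Da ρ ⊓ Db ρ)

/-- the fixed vectors of `⟨ab, c⟩` -/
abbrev D3 : Submodule F V := Dc ρ ⊓ Fr ρ (U 1 1 1)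

variable [FiniteDimensional F V]

theorem fin_le (k : X3) {Y Y' : Submodule F V} (h : ∀ y ∈ Y, ρ k y ∈ Y') : finrank F Y ≤ finrank F Y' :=
  LinearMap.finrank_le_finrank_of_injective (f := (ρ k).restrict h)
    (fun _ _ hxy => Subtype.ext (rinj ρ k (congrArg Subtype.val hxy)))

theorem fr_conj {g h k : X3} (e : k * g = h * k) : finrank F (Fk (ρ g)) = finrank F (Fk (ρ h)) := by
  apply le_antisymm
  · apply fin_le ρ k
    intro y (hy : ρ g y = y)
    rw [mem_Fr, ← rmul, ← e, rmul, hy]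
  · apply fin_le ρ k⁻¹
    intro y (hy : ρ h y = y)
    rw [mem_Fr, ← rmul]
    have : g * k⁻¹ = k⁻¹ * h := by rw [eq_inv_mul_iff_mul_eq, ← mul_assoc, e, mul_inv_cancel_right]
    rw [this, rmul, hy]

theorem cube {g : X3} (h : g * g * g = 1) (x : V) : ρ g (ρ g (ρ g x)) = x := by
  rw [← rmul, ← rmul, h, rone]

theorem comm_of {g h : X3} (e : g * h = h * g) (x : V) : ρ g (ρ h x) = ρ h (ρ g x) := by
  rw [← rmul, e, rmul]

/-- a vector fixed by `c`: the elements of `U` commute on it -/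
theorem comp_two {g h k : X3} (e : g * h = k) : (ρ g) ∘ₗ (ρ h) = ρ k := by
  rw [← e, map_mul]; rfl

theorem comp_three {g h k : X3} (e : g * (h * h) = k) : (ρ g) ∘ₗ (ρ h) ∘ₗ (ρ h) = ρ k := by
  rw [← e, map_mul, map_mul]; rfl

theorem Db_stable {y : V} (h : y ∈ Dc ρ ⊓ Da ρ) : ρ (U 0 1 0) y ∈ Dc ρ ⊓ Da ρ := by
  obtain ⟨h1, h2⟩ := h
  replace h1 : ρ (U 0 0 1) y = y := h1
  replace h2 : ρ (U 1 0 0) y = y := h2
  refine ⟨?_, ?_⟩
  · change ρ (U 0 0 1) (ρ (U 0 1 0) y) = ρ (U 0 1 0) y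
    rw [comm_of ρ (by decide), h1]
  · change ρ (U 1 0 0) (ρ (U 0 1 0) y) = ρ (U 0 1 0) y
    rw [← rmul, show U 1 0 0 * U 0 1 0 = U 0 1 0 * U 1 0 0 * U 0 0 1 by decide, rmul, rmul, h1, h2]

/-- **The dimension relation.** -/
theorem dims (h3 : (3 : F) ≠ 0) :
    finrank F V + 12 * finrank F (D0 ρ) = 5 * finrank F (Dc ρ ⊓ Da ρ : Submodule F V) + 8 * finrank F (D3 ρ) ∧
    finrank F (D0 ρ) ≤ finrank F (Dc ρ ⊓ Da ρ : Submodule F V) ∧
    finrank F (Dc ρ ⊓ Da ρ : Submodule F V) = finrank F (Dc ρ ⊓ Db ρ : Submodule F V) ∧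
    finrank F (D0 ρ) ≤ finrank F (D3 ρ) ∧
    finrank F (Dc ρ ⊓ Da ρ : Submodule F V) ≠ finrank F (D0 ρ) + 1 ∧ finrank F (D3 ρ) ≠ finrank F (D0 ρ) + 1 := by
  have e1 := four_rel h3 (R := ρ (U 0 0 1)) (S := ρ (U 1 0 0)) (comm_of ρ (by decide)) (cube ρ (by decide))
    (cube ρ (by decide))
  rw [comp_three ρ (k := U 2 0 1) (by decide), comp_two ρ (k := U 1 0 1) (by decide)] at e1
  have e2 := four_rel h3 (R := ρ (U 0 0 1)) (S := ρ (U 0 1 0)) (comm_of ρ (by decide)) (cube ρ (by decide))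
    (cube ρ (by decide))
  rw [comp_three ρ (k := U 0 2 1) (by decide), comp_two ρ (k := U 0 1 1) (by decide)] at e2
  have c1 := fr_conj ρ (g := U 0 0 1) (h := U 1 0 0) (k := n2) (by decide)
  have c2 := fr_conj ρ (g := U 0 0 1) (h := U 0 1 0) (k := n1 * z1) (by decide)
  have c3 := fr_conj ρ (g := U 0 0 1) (h := U 1 0 1) (k := U 0 2 0 * n2) (by decide)
  have c4 := fr_conj ρ (g := U 0 0 1) (h := U 2 0 1) (k := U 0 1 0 * n2 * z1) (by decide)
  have c5 := fr_conj ρ (g := U 0 0 1) (h := U 0 1 1) (k := U 1 0 0 * n1 * z1) (by decide)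
  have c6 := fr_conj ρ (g := U 0 0 1) (h := U 0 2 1) (k := U 2 0 0 * n1) (by decide)
  have e3 := four_rel_on h3 (Dc ρ) (R := ρ (U 1 0 0)) (S := ρ (U 0 1 0))
    (fun y (hy : ρ (U 0 0 1) y = y) => by rw [mem_Fr, comm_of ρ (by decide), hy])
    (fun y (hy : ρ (U 0 0 1) y = y) => by rw [mem_Fr, comm_of ρ (by decide), hy])
    (fun y (hy : ρ (U 0 0 1) y = y) => by
      rw [← rmul, ← rmul, show U 1 0 0 * U 0 1 0 = U 0 1 0 * U 1 0 0 * U 0 0 1 by decide, rmul _ _ (U 0 0 1), hy])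
    (fun y _ => cube ρ (by decide) y) (fun y _ => cube ρ (by decide) y)
  rw [comp_three ρ (k := U 1 2 2) (by decide), comp_two ρ (k := U 1 1 1) (by decide)] at e3
  -- the two regular subgroups are conjugate
  have c7 : finrank F (Dc ρ ⊓ Fr ρ (U 1 2 2) : Submodule F V) = finrank F (D3 ρ) := by
    apply le_antisymm
    · apply fin_le ρ z1
      rintro y ⟨h1, h2⟩
      replace h1 : ρ (U 0 0 1) y = y := h1
      replace h2 : ρ (U 1 2 2) y = y := h2
      refine ⟨?_, ?_⟩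
      · change ρ (U 0 0 1) (ρ z1 y) = ρ z1 y
        rw [← rmul, show U 0 0 1 * z1 = z1 * (U 0 0 1 * U 0 0 1) by decide, rmul, rmul, h1, h1]
      · change ρ (U 1 1 1) (ρ z1 y) = ρ z1 y
        rw [← rmul, show U 1 1 1 * z1 = z1 * U 1 2 2 by decide, rmul, h2]
    · apply fin_le ρ z1
      rintro y ⟨h1, h2⟩
      replace h1 : ρ (U 0 0 1) y = y := h1
      replace h2 : ρ (U 1 1 1) y = y := h2
      refine ⟨?_, ?_⟩
      · change ρ (U 0 0 1) (ρ z1 y) = ρ z1 y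
        rw [← rmul, show U 0 0 1 * z1 = z1 * (U 0 0 1 * U 0 0 1) by decide, rmul, rmul, h1, h1]
      · change ρ (U 1 2 2) (ρ z1 y) = ρ z1 y
        rw [← rmul, show U 1 2 2 * z1 = z1 * U 1 1 1 by decide, rmul, h2]
  have o1 := no_one_on h3 (Dc ρ ⊓ Da ρ) (T := ρ (U 0 1 0)) (H := ρ z1) (fun y hy => Db_stable ρ hy)
    (fun y hy => by
      obtain ⟨h1, h2⟩ := hy
      replace h1 : ρ (U 0 0 1) y = y := h1
      replace h2 : ρ (U 1 0 0) y = y := h2
      refine ⟨?_, ?_⟩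
      · change ρ (U 0 0 1) (ρ z1 y) = ρ z1 y
        rw [← rmul, show U 0 0 1 * z1 = z1 * (U 0 0 1 * U 0 0 1) by decide, rmul, rmul, h1, h1]
      · change ρ (U 1 0 0) (ρ z1 y) = ρ z1 y
        rw [comm_of ρ (by decide), h2])
    (fun y _ => cube ρ (by decide) y)
    (fun y _ => by rw [← rmul, ← rmul, show U 0 1 0 * z1 * U 0 1 0 = z1 by decide]) (rinj ρ _)
  have o2 := no_one_on h3 (D3 ρ) (T := ρ (U 1 0 0)) (H := ρ z12)
    (fun y hy => by
      obtain ⟨h1, h2⟩ := hy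
      replace h1 : ρ (U 0 0 1) y = y := h1
      replace h2 : ρ (U 1 1 1) y = y := h2
      refine ⟨?_, ?_⟩
      · change ρ (U 0 0 1) (ρ (U 1 0 0) y) = ρ (U 1 0 0) y
        rw [comm_of ρ (by decide), h1]
      · change ρ (U 1 1 1) (ρ (U 1 0 0) y) = ρ (U 1 0 0) y
        rw [← rmul, show U 1 1 1 * U 1 0 0 = U 1 0 0 * (U 1 1 1 * (U 0 0 1 * U 0 0 1)) by decide, rmul, rmul,
          rmul, h1, h1, h2])
    (fun y hy => by
      obtain ⟨h1, h2⟩ := hy
      replace h1 : ρ (U 0 0 1) y = y := h1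
      replace h2 : ρ (U 1 1 1) y = y := h2
      refine ⟨?_, ?_⟩
      · change ρ (U 0 0 1) (ρ z12 y) = ρ z12 y
        rw [comm_of ρ (by decide), h1]
      · change ρ (U 1 1 1) (ρ z12 y) = ρ z12 y
        rw [← rmul, show U 1 1 1 * z12 = z12 * (U 1 1 1 * (U 1 1 1 * U 0 0 1)) by decide, rmul, rmul, rmul,
          h1, h2, h2])
    (fun y _ => cube ρ (by decide) y)
    (fun y _ => by rw [← rmul, ← rmul, show U 1 0 0 * z12 * U 1 0 0 = z12 by decide]) (rinj ρ _)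
  have s1 : (Dc ρ ⊓ Da ρ ⊓ Fr ρ (U 0 1 0) : Submodule F V) = D0 ρ := by rw [inf_assoc]
  have s2 : (D3 ρ ⊓ Fr ρ (U 1 0 0) : Submodule F V) = D0 ρ := by
    ext y
    constructor
    · rintro ⟨⟨h1, h2⟩, h3⟩
      replace h2 : ρ (U 1 1 1) y = y := h2
      replace h3 : ρ (U 1 0 0) y = y := h3
      refine ⟨h1, h3, ?_⟩
      change ρ (U 0 1 0) y = y
      apply rinj ρ (U 1 0 0)
      rw [← rmul, show U 1 0 0 * U 0 1 0 = U 1 1 1 by decide, h2, h3]
    · rintro ⟨h1, h2, h3⟩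
      replace h3 : ρ (U 0 1 0) y = y := h3
      replace h2 : ρ (U 1 0 0) y = y := h2
      refine ⟨⟨h1, ?_⟩, h2⟩
      change ρ (U 1 1 1) y = y
      rw [show U 1 1 1 = U 1 0 0 * U 0 1 0 by decide, rmul, h3, h2]
  rw [s1] at o1
  rw [s2] at o2
  have l1 : finrank F (D0 ρ) ≤ finrank F (Dc ρ ⊓ Da ρ : Submodule F V) := by
    rw [← s1]; exact Submodule.finrank_mono inf_le_left
  have l2 : finrank F (D0 ρ) ≤ finrank F (D3 ρ) := by
    rw [← s2]; exact Submodule.finrank_mono inf_le_left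
  have e4 : finrank F (Dc ρ ⊓ Da ρ : Submodule F V) = finrank F (Dc ρ ⊓ Db ρ : Submodule F V) := by
    change finrank F V + 3 * finrank F (Dc ρ ⊓ Da ρ : Submodule F V) = _ at e1
    change finrank F V + 3 * finrank F (Dc ρ ⊓ Db ρ : Submodule F V) = _ at e2
    omega
  refine ⟨?_, l1, e4, l2, o1, o2⟩
  change finrank F V + 3 * finrank F (Dc ρ ⊓ Da ρ : Submodule F V) = _ at e1
  change finrank F (Fk (ρ (U 0 0 1))) + 3 * finrank F (D0 ρ) = finrank F (Dc ρ ⊓ Da ρ : Submodule F V) +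
    finrank F (Dc ρ ⊓ Db ρ : Submodule F V) + finrank F (D3 ρ) + finrank F (Dc ρ ⊓ Fr ρ (U 1 2 2) : Submodule F V) at e3
  rw [c7] at e3
  omega

/-- If `a` acts trivially, everything does. -/
theorem trivial_of_a (h : ∀ x, ρ (U 1 0 0) x = x) (g : X3) (x : V) : ρ g x = x := by
  have h1 : U 1 0 0 ∈ ρ.ker := by
    rw [MonoidHom.mem_ker]
    ext y
    exact h y
  have h2 := gen_normal h1 g
  rw [MonoidHom.mem_ker] at h2
  rw [h2]; rfl

/-- Representations of degree at most 9 are trivial. -/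
theorem trivial_of_le (h3 : (3 : F) ≠ 0) (hn : finrank F V ≤ 9) (g : X3) (x : V) : ρ g x = x := by
  obtain ⟨h1, h2, h3, h4, h5, h6⟩ := dims ρ h3
  have h7 : finrank F (D0 ρ) = finrank F V := by omega
  have h8 : D0 ρ = ⊤ := Submodule.eq_top_of_finrank_eq h7
  refine trivial_of_a ρ (fun x => ?_) g x
  have h9 : x ∈ D0 ρ := by rw [h8]; trivial
  exact h9.2.1

/-- Non-trivial representations of degree at most 12. -/
theorem cases (h3 : (3 : F) ≠ 0) (hn : finrank F V ≤ 12) (hnt : ∃ g x, ρ g x ≠ x) :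
    finrank F V = 10 + finrank F (D0 ρ) ∧ finrank F (Dc ρ ⊓ Da ρ : Submodule F V) = 2 + finrank F (D0 ρ) ∧
    D3 ρ = D0 ρ := by
  obtain ⟨h1, h2, h3, h4, h5, h6⟩ := dims ρ h3
  have h0 : finrank F (D0 ρ) ≠ finrank F V := by
    intro h7
    have h8 : D0 ρ = ⊤ := Submodule.eq_top_of_finrank_eq h7
    obtain ⟨g, x, hx⟩ := hnt
    refine hx (trivial_of_a ρ (fun x => ?_) g x)
    have h9 : x ∈ D0 ρ := by rw [h8]; trivial
    exact h9.2.1
  have h7 : finrank F (D3 ρ) = finrank F (D0 ρ) := by omega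
  refine ⟨by omega, by omega, ?_⟩
  symm
  apply Submodule.eq_of_le_of_finrank_eq _ h7.symm
  rintro y ⟨e1, e2, e3⟩
  replace e3 : ρ (U 0 1 0) y = y := e3
  replace e2 : ρ (U 1 0 0) y = y := e2
  refine ⟨e1, ?_⟩
  change ρ (U 1 1 1) y = y
  rw [show U 1 1 1 = U 1 0 0 * U 0 1 0 by decide, rmul, e3, e2]

end

end Cfsg.Agent.H175.LD
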