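import Cfsg.Agent.H175.LD.Hecke2

/-!
# Representations of `SL₃(3)` without vectors fixed by a maximal parabolic subgroup (helper175)
-/

set_option autoImplicit false
set_option linter.unusedSectionVars false

namespace Cfsg.Agent.H175.LD

open Module

section

variable {F : Type*} [Field F] {V : Type*} [AddCommGroup V] [Module F V] [FiniteDimensional F V]
variable {ρ : X3 →* (V →ₗ[F] V)}

/-- irreducible -/
def Irr (ρ : X3 →* (V →ₗ[F] V)) : Prop := ∀ W : Submodule F V, (∀ g, ∀ x ∈ W, ρ g x ∈ W) → W = ⊥ ∨ W = ⊤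

theorem Irr.span (hI : Irr ρ) {v : V} (hv : v ≠ 0) : Submodule.span F (Set.range fun g => ρ g v) = ⊤ := by
  refine (hI _ ?_).resolve_left ?_
  · intro g x hx
    induction hx using Submodule.span_induction with
    | mem y hy =>
      obtain ⟨h, rfl⟩ := hy
      exact Submodule.subset_span ⟨g * h, rmul ρ _ _ _⟩
    | zero => rw [map_zero]; exact Submodule.zero_mem _
    | add a b _ _ ha hb => rw [map_add]; exact Submodule.add_mem _ ha hb
    | smul c a _ ha => rw [map_smul]; exact Submodule.smul_mem _ _ ha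
  · intro h
    apply hv
    rw [← Submodule.mem_bot F, ← h]
    exact Submodule.subset_span ⟨1, rone ρ v⟩

/-- `V^U` is a line -/
theorem D0_le (h3 : (3 : F) ≠ 0) (hI : Irr ρ) (hP : NoP ρ) {v : V} (h : FB ρ v) (hv : v ≠ 0) :
    D0 ρ ≤ Submodule.span F {v} := by
  have h1 : ∀ x, e0 ρ x ∈ Submodule.span F {v} := by
    intro x
    have hx : x ∈ Submodule.span F (Set.range fun g => ρ g v) := by rw [hI.span hv]; trivial
    induction hx using Submodule.span_induction with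
    | mem y hy =>
      obtain ⟨g, rfl⟩ := hy
      obtain ⟨m, hm⟩ := h.coef_all h3 hP g
      change e0 ρ (ρ g v) ∈ _
      rw [hm]
      exact Submodule.smul_mem _ _ (Submodule.mem_span_singleton_self v)
    | zero => rw [map_zero]; exact Submodule.zero_mem _
    | add a b _ _ ha hb => rw [map_add]; exact Submodule.add_mem _ ha hb
    | smul c a _ ha => rw [map_smul]; exact Submodule.smul_mem _ _ ha
  intro x hx
  rw [← e0_fix ρ h3 hx]
  exact h1 x

theorem D0_one (h3 : (3 : F) ≠ 0) (hI : Irr ρ) (hP : NoP ρ) {v : V} (h : FB ρ v) (hv : v ≠ 0) :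
    finrank F (D0 ρ) = 1 := by
  have h1 : D0 ρ = Submodule.span F {v} := le_antisymm (D0_le h3 hI hP h hv) (by
    rw [Submodule.span_singleton_le_iff_mem]; exact h.mem)
  rw [h1, finrank_span_singleton hv]

/-- the relation coming from `V^⟨ab,c⟩ = V^U` -/
theorem rel13 (h3 : (3 : F) ≠ 0) (hP : NoP ρ) (hD : D3 ρ = D0 ρ) {v : V} (h : FB ρ v) (hv : v ≠ 0) : (104 : F) = 0 := by
  set τ : F := -(3 : F)⁻¹ with hτ
  have hm : ∀ x, av (ρ (U 1 1 1)) (av (ρ (U 0 0 1)) x) = e0 ρ x := by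
    intro x
    have h1 : av (ρ (U 1 1 1)) (av (ρ (U 0 0 1)) x) ∈ D3 ρ := by
      refine ⟨?_, av_fr ρ (by decide) _⟩
      have hc := av_fr ρ (g := U 0 0 1) (by decide) x
      change ρ (U 0 0 1) (av (ρ (U 1 1 1)) (av (ρ (U 0 0 1)) x)) = av (ρ (U 1 1 1)) (av (ρ (U 0 0 1)) x)
      simp only [av_apply (ρ (U 1 1 1)), map_smul, map_add,
        comm_of ρ (show U 0 0 1 * U 1 1 1 = U 1 1 1 * U 0 0 1 by decide), hc]
    rw [hD] at h1
    rw [← e0_fix ρ h3 h1, e0_av ρ h3 (e0_U ρ 1 1 1), e0_av ρ h3 (e0_U ρ 0 0 1)]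
  have h1 : e0 ρ (ρ s0 (av (ρ (U 1 1 1)) (av (ρ (U 0 0 1)) (ρ s0 v)))) = τ ^ 6 • v := by
    rw [hm, show ρ s0 v = ρ (wl 5) v from rfl, h.coef h3 hP, map_smul, map_smul, show ρ s0 v = ρ (wl 5) v from rfl,
      h.coef h3 hP, smul_smul, ← pow_add]
    rfl
  have q00 : e0 ρ (ρ (s0 * s0) v) = τ ^ 0 • v := h.coef' h3 hP (i := 0) (j := 0) (k := 0) (w := 0) (by decide)
  have q01 : e0 ρ (ρ (s0 * (U 0 0 1 * s0)) v) = τ ^ 3 • v :=
    h.coef' h3 hP (i := 0) (j := 0) (k := 1) (w := 5) (by decide)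
  have q02 : e0 ρ (ρ (s0 * (U 0 0 1 * (U 0 0 1 * s0))) v) = τ ^ 3 • v :=
    h.coef' h3 hP (i := 0) (j := 0) (k := 2) (w := 5) (by decide)
  have q10 : e0 ρ (ρ (s0 * (U 1 1 1 * s0)) v) = τ ^ 2 • v :=
    h.coef' h3 hP (i := 0) (j := 2) (k := 1) (w := 4) (by decide)
  have q11 : e0 ρ (ρ (s0 * (U 1 1 1 * (U 0 0 1 * s0))) v) = τ ^ 3 • v :=
    h.coef' h3 hP (i := 1) (j := 1) (k := 2) (w := 5) (by decide)
  have q12 : e0 ρ (ρ (s0 * (U 1 1 1 * (U 0 0 1 * (U 0 0 1 * s0)))) v) = τ ^ 2 • v :=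
    h.coef' h3 hP (i := 2) (j := 0) (k := 2) (w := 3) (by decide)
  have q20 : e0 ρ (ρ (s0 * (U 1 1 1 * (U 1 1 1 * s0))) v) = τ ^ 2 • v :=
    h.coef' h3 hP (i := 1) (j := 0) (k := 2) (w := 3) (by decide)
  have q21 : e0 ρ (ρ (s0 * (U 1 1 1 * (U 1 1 1 * (U 0 0 1 * s0)))) v) = τ ^ 2 • v :=
    h.coef' h3 hP (i := 0) (j := 1) (k := 1) (w := 4) (by decide)
  have q22 : e0 ρ (ρ (s0 * (U 1 1 1 * (U 1 1 1 * (U 0 0 1 * (U 0 0 1 * s0))))) v) = τ ^ 3 • v :=
    h.coef' h3 hP (i := 2) (j := 2) (k := 2) (w := 5) (by decide)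
  simp only [av_apply, map_smul, map_add, ← rmul] at h1
  rw [q00, q01, q02, q10, q11, q12, q20, q21, q22] at h1
  have h4 : ((3 : F)⁻¹ * (3 : F)⁻¹ * (1 + 4 * τ ^ 2 + 4 * τ ^ 3) - τ ^ 6) • v = 0 := by
    linear_combination (norm := module) h1
  have h5 := (smul_eq_zero.1 h4).resolve_right hv
  have h6 : (3 : F) * τ = -1 := by rw [hτ]; field_simp
  have h7 : (3 : F)⁻¹ = -τ := by rw [hτ]; ring
  rw [h7] at h5
  have h8 : τ ^ 2 * (81 * (1 + 4 * τ ^ 2 + 4 * τ ^ 3 - τ ^ 4)) = 0 := by linear_combination 81 * h5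
  have hτ0 : τ ≠ 0 := by
    intro h0
    rw [h0, mul_zero] at h6
    exact one_ne_zero (neg_eq_zero.1 h6.symm)
  have h9 := (mul_eq_zero.1 h8).resolve_left (pow_ne_zero 2 hτ0)
  have t2 : 9 * τ ^ 2 = 1 := by linear_combination (3 * τ - 1) * h6
  have t3 : 27 * τ ^ 3 = -1 := by linear_combination 3 * τ * t2 + h6
  have t4 : 81 * τ ^ 4 = 1 := by linear_combination 3 * τ * t3 - h6
  linear_combination h9 - 36 * t2 - 12 * t3 + t4

/-- characteristic two is impossible -/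
theorem two_ne (h3 : (3 : F) ≠ 0) (hI : Irr ρ) (hP : NoP ρ) (hn : finrank F V ≠ 1) {v : V} (h : FB ρ v) (hv : v ≠ 0) :
    (2 : F) ≠ 0 := by
  intro h2
  have hτ : -(3 : F)⁻¹ = 1 := by
    have : (3 : F) = -1 := by linear_combination 2 * h2
    rw [this, inv_neg, inv_one, neg_neg]
  have h1 : ∀ g, e0 ρ (ρ g v) = v := by
    intro g
    obtain ⟨m, hm⟩ := h.coef_all h3 hP g
    rw [hm, hτ, one_pow, one_smul]
  let N : Submodule F V := ⨅ g : X3, LinearMap.ker (e0 ρ ∘ₗ ρ g)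
  have hN : ∀ x, x ∈ N ↔ ∀ g, e0 ρ (ρ g x) = 0 := by
    intro x
    simp only [N, Submodule.mem_iInf, LinearMap.mem_ker]
    rfl
  rcases hI N (by
    intro g x hx
    rw [hN] at hx ⊢
    intro k
    rw [← rmul]
    exact hx _) with h4 | h4
  · have h5 : ∀ g, ρ g v = v := by
      intro g
      have : ρ g v - v ∈ N := by
        rw [hN]
        intro k
        rw [map_sub, map_sub, ← rmul, h1, h1, sub_self]
      rw [h4, Submodule.mem_bot, sub_eq_zero] at this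
      exact this
    have h6 := hI.span hv
    have h7 : (Set.range fun g => ρ g v) = {v} := by
      ext x
      constructor
      · rintro ⟨g, rfl⟩; exact h5 g
      · rintro rfl; exact ⟨1, rone ρ _⟩
    rw [h7] at h6
    have h8 := finrank_span_singleton (K := F) hv
    rw [h6, finrank_top] at h8
    exact hn h8
  · have : v ∈ N := by rw [h4]; trivial
    rw [hN] at this
    have h5 := this 1
    rw [h1] at h5
    exact hv h5

end

end Cfsg.Agent.H175.LD
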