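import Cfsg.Agent.H175.LD.Ind

/-!
# The Hecke operators on `V^B` for `SL₃(3)` (helper175)
-/

set_option autoImplicit false
set_option linter.unusedSectionVars false

namespace Cfsg.Agent.H175.LD

open Module

section

variable {F : Type*} [Field F] {V : Type*} [AddCommGroup V] [Module F V] [FiniteDimensional F V]
variable (ρ : X3 →* (V →ₗ[F] V))

theorem r2 {g h k : X3} (e : g * h = k) (x : V) : ρ g (ρ h x) = ρ k x := by rw [← rmul, e]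

theorem r3 {g h k l : X3} (e : g * h = k * l) (x : V) : ρ g (ρ h x) = ρ k (ρ l x) := by rw [← rmul, e, rmul]

theorem av_sq {g : X3} (h : g * g * g = 1) (x : V) : av (ρ (g * g)) x = av (ρ g) x := by
  have h1 : ρ g (ρ g (ρ g x)) = x := cube ρ h x
  rw [av_apply, av_apply]
  congr 1
  simp only [rmul]
  rw [h1]
  abel

/-- projection onto `D0` -/
noncomputable def e0 : V →ₗ[F] V := av (ρ (U 1 0 0)) ∘ₗ av (ρ (U 0 1 0)) ∘ₗ av (ρ (U 0 0 1))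

theorem e0_apply (x : V) : e0 ρ x = av (ρ (U 1 0 0)) (av (ρ (U 0 1 0)) (av (ρ (U 0 0 1)) x)) := rfl

theorem e0_fix (h3 : (3 : F) ≠ 0) {x : V} (hx : x ∈ D0 ρ) : e0 ρ x = x := by
  rw [e0_apply, av_fix h3 (show ρ (U 0 0 1) x = x from hx.1), av_fix h3 (show ρ (U 0 1 0) x = x from hx.2.2),
    av_fix h3 (show ρ (U 1 0 0) x = x from hx.2.1)]

theorem av_b_fix_c {x : V} (hc : ρ (U 0 0 1) x = x) : ρ (U 0 0 1) (av (ρ (U 0 1 0)) x) = av (ρ (U 0 1 0)) x := by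
  simp only [av_apply, map_smul, map_add, comm_of ρ (show U 0 0 1 * U 0 1 0 = U 0 1 0 * U 0 0 1 by decide), hc]

theorem av_a_fix_c {x : V} (hc : ρ (U 0 0 1) x = x) : ρ (U 0 0 1) (av (ρ (U 1 0 0)) x) = av (ρ (U 1 0 0)) x := by
  simp only [av_apply, map_smul, map_add, comm_of ρ (show U 0 0 1 * U 1 0 0 = U 1 0 0 * U 0 0 1 by decide), hc]

/-- `a`, `b` commute on the vectors fixed by `c` -/
theorem ab_comm {x : V} (hc : ρ (U 0 0 1) x = x) : ρ (U 1 0 0) (ρ (U 0 1 0) x) = ρ (U 0 1 0) (ρ (U 1 0 0) x) := by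
  rw [← rmul, show U 1 0 0 * U 0 1 0 = U 0 1 0 * U 1 0 0 * U 0 0 1 by decide, rmul, rmul, hc]

theorem av_ab {x : V} (hc : ρ (U 0 0 1) x = x) :
    av (ρ (U 1 0 0)) (av (ρ (U 0 1 0)) x) = av (ρ (U 0 1 0)) (av (ρ (U 1 0 0)) x) := by
  have h1 : ρ (U 0 0 1) (ρ (U 0 1 0) x) = ρ (U 0 1 0) x := by rw [comm_of ρ (by decide), hc]
  have h2 : ρ (U 0 0 1) (ρ (U 1 0 0) x) = ρ (U 1 0 0) x := by rw [comm_of ρ (by decide), hc]
  have h3 : ρ (U 0 0 1) (ρ (U 0 1 0) (ρ (U 1 0 0) x)) = ρ (U 0 1 0) (ρ (U 1 0 0) x) := by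
    rw [comm_of ρ (by decide), h2]
  have h4 : ρ (U 0 0 1) (ρ (U 0 1 0) (ρ (U 0 1 0) x)) = ρ (U 0 1 0) (ρ (U 0 1 0) x) := by
    rw [comm_of ρ (by decide), h1]
  simp only [av_apply, map_smul, map_add, ab_comm ρ hc, ab_comm ρ h1, ab_comm ρ h2, ab_comm ρ h3]
  module

theorem e0_mem (x : V) : e0 ρ x ∈ D0 ρ := by
  have hc := av_fr ρ (g := U 0 0 1) (by decide) x
  refine ⟨?_, ?_, ?_⟩
  · exact av_a_fix_c ρ (av_b_fix_c ρ hc)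
  · exact av_fr ρ (by decide) _
  · change ρ (U 0 1 0) (e0 ρ x) = e0 ρ x
    rw [e0_apply, av_ab ρ hc]
    exact av_fr ρ (by decide) _

theorem e0_c (x : V) : e0 ρ (ρ (U 0 0 1) x) = e0 ρ x := by
  rw [e0_apply, e0_apply, av_comm ρ rfl, av_fr ρ (by decide)]

theorem e0_b (x : V) : e0 ρ (ρ (U 0 1 0) x) = e0 ρ x := by
  rw [e0_apply, e0_apply, av_comm ρ (by decide), av_comm ρ rfl, av_fr ρ (by decide)]

theorem e0_a (x : V) : e0 ρ (ρ (U 1 0 0) x) = e0 ρ x := by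
  have hc := av_fr ρ (g := U 0 0 1) (by decide) x
  rw [e0_apply, e0_apply, av_comm ρ (g := U 0 0 1) (k := U 1 0 0) (by decide),
    av_comm' ρ (g := U 0 1 0) (k := U 1 0 0) (c := U 0 0 2) (by decide) (by decide) ?_, av_comm ρ rfl,
    av_fr ρ (by decide)]
  rw [show U 0 0 2 = U 0 0 1 * U 0 0 1 by decide, rmul, hc, hc]

theorem e0_U (i j k : ZMod 3) (x : V) : e0 ρ (ρ (U i j k) x) = e0 ρ x := by
  have key : ∀ (g : X3), (∀ y, e0 ρ (ρ g y) = e0 ρ y) → ∀ (m : ℕ) y, e0 ρ (ρ (g ^ m) y) = e0 ρ y := by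
    intro g hg m
    induction m with
    | zero => intro y; rw [pow_zero, rone]
    | succ m ih => intro y; rw [pow_succ, rmul, ih, hg]
  rw [U_pow, rmul, rmul, key _ (e0_a ρ), key _ (e0_b ρ), key _ (e0_c ρ)]

theorem e0_av {g : X3} (h3 : (3 : F) ≠ 0) (h : ∀ y, e0 ρ (ρ g y) = e0 ρ y) (x : V) : e0 ρ (av (ρ g) x) = e0 ρ x := by
  rw [av_apply, map_smul, map_add, map_add, h, h, h]
  have : e0 ρ x + e0 ρ x + e0 ρ x = (3 : F) • e0 ρ x := by module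
  rw [this, smul_smul, inv_mul_cancel₀ h3, one_smul]

/-- torus elements commute with `e0` -/
theorem e0_z1 (x : V) : e0 ρ (ρ z1 x) = ρ z1 (e0 ρ x) := by
  rw [e0_apply, e0_apply, av_conj ρ (g := U 0 0 1) (h := U 0 0 1 * U 0 0 1) (by decide), av_sq ρ (by decide),
    av_conj ρ (g := U 0 1 0) (h := U 0 1 0 * U 0 1 0) (by decide), av_sq ρ (by decide), av_comm ρ (by decide)]

theorem e0_z2 (x : V) : e0 ρ (ρ z2 x) = ρ z2 (e0 ρ x) := by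
  rw [e0_apply, e0_apply, av_conj ρ (g := U 0 0 1) (h := U 0 0 1 * U 0 0 1) (by decide), av_sq ρ (by decide),
    av_comm ρ (by decide), av_conj ρ (g := U 1 0 0) (h := U 1 0 0 * U 1 0 0) (by decide), av_sq ρ (by decide)]

theorem z1_D0 {x : V} (hx : x ∈ D0 ρ) (h3 : (3 : F) ≠ 0) : ρ z1 x ∈ D0 ρ := by
  rw [← e0_fix ρ h3 hx, ← e0_z1]; exact e0_mem ρ _

theorem z2_D0 {x : V} (hx : x ∈ D0 ρ) (h3 : (3 : F) ≠ 0) : ρ z2 x ∈ D0 ρ := by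
  rw [← e0_fix ρ h3 hx, ← e0_z2]; exact e0_mem ρ _

/-- `e0` on vectors fixed by `a` -/
theorem e0_n1_e0 (h3 : (3 : F) ≠ 0) {x : V} (hx : ρ (U 1 0 0) x = x) : e0 ρ (ρ n1 (e0 ρ x)) = e0 ρ (ρ n1 x) := by
  have hc := av_fr ρ (g := U 0 0 1) (by decide) x
  have h1 : e0 ρ x = av (ρ (U 0 1 0)) (av (ρ (U 0 0 1)) x) := by
    have h2 : av (ρ (U 1 0 0)) (av (ρ (U 0 0 1)) x) = av (ρ (U 0 0 1)) x := by
      change e1 ρ x = _
      rw [← e1_swap, av_fix h3 hx]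
    rw [e0_apply, av_ab ρ hc, h2]
  have h4 : ρ n1 (av (ρ (U 0 1 0)) (av (ρ (U 0 0 1)) x)) = av (ρ (U 0 0 1)) (av (ρ (U 0 2 0)) (ρ n1 x)) := by
    rw [av_conj ρ (g := U 0 2 0) (k := n1) (h := U 0 0 1) (by decide),
      av_conj ρ (g := U 0 0 1) (k := n1) (h := U 0 1 0) (by decide)]
  rw [h1, h4, e0_av ρ h3 (e0_U ρ 0 0 1), e0_av ρ h3 (e0_U ρ 0 2 0)]

/-- `e0` on vectors fixed by `b` -/
theorem e0_n2_e0 (h3 : (3 : F) ≠ 0) {x : V} (hx : ρ (U 0 1 0) x = x) : e0 ρ (ρ n2 (e0 ρ x)) = e0 ρ (ρ n2 x) := by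
  have h1 : e0 ρ x = av (ρ (U 1 0 0)) (av (ρ (U 0 0 1)) x) := by
    have h2 : av (ρ (U 0 1 0)) (av (ρ (U 0 0 1)) x) = av (ρ (U 0 0 1)) x := by
      apply av_fix h3
      simp only [av_apply, map_smul, map_add, comm_of ρ (show U 0 1 0 * U 0 0 1 = U 0 0 1 * U 0 1 0 by decide), hx]
    rw [e0_apply, h2]
  have h4 : ρ n2 (av (ρ (U 1 0 0)) (av (ρ (U 0 0 1)) x)) = av (ρ (U 0 0 2)) (av (ρ (U 1 0 0)) (ρ n2 x)) := by
    rw [av_conj ρ (g := U 1 0 0) (k := n2) (h := U 0 0 1) (by decide),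
      av_conj ρ (g := U 0 0 2) (k := n2) (h := U 1 0 0) (by decide)]
  rw [h1, h4, e0_av ρ h3 (e0_U ρ 0 0 2), e0_av ρ h3 (e0_U ρ 1 0 0)]

/-- `e0 (n₁ v) ≠ 0` for an eigenvector `v` of `z₁` -/
theorem e0_n1_ne (h3 : (3 : F) ≠ 0) {v : V} (hv : v ∈ D0 ρ) {η : F} (hz : ρ z1 v = η • v) (h : e0 ρ (ρ n1 v) = 0) :
    v = 0 := by
  have ha : ρ (U 1 0 0) v = v := hv.2.1
  have hb : ρ (U 0 1 0) v = v := hv.2.2
  have hc : ρ (U 0 0 1) v = v := hv.1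
  have h1 : e0 ρ (ρ n1 v) = av (ρ (U 1 0 0)) (ρ n1 v) := by
    rw [e0_apply, av_conj ρ (g := U 0 0 1) (k := n1) (h := U 0 1 0) (by decide), av_fix h3 hb,
      av_conj ρ (g := U 0 1 0) (k := n1) (h := U 0 0 2) (by decide), av_fix h3 (T := ρ (U 0 0 2))]
    rw [show U 0 0 2 = U 0 0 1 * U 0 0 1 by decide, rmul, hc, hc]
  rw [h1, av_apply] at h
  have h2 : ρ n1 v + ρ (U 1 0 0) (ρ n1 v) + ρ (U 1 0 0) (ρ (U 1 0 0) (ρ n1 v)) = 0 :=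
    (smul_eq_zero.1 h).resolve_left (inv_ne_zero h3)
  have h4 := congrArg (fun y => e0 ρ (ρ n1⁻¹ y)) h2
  simp only [map_add, map_zero] at h4
  have q1 : ρ n1⁻¹ (ρ n1 v) = v := rinv ρ _ _
  have q2 : ρ n1⁻¹ (ρ (U 1 0 0) (ρ n1 v)) = ρ (U 2 0 0) (ρ n1 v) := by
    rw [← rmul, ← rmul, show n1⁻¹ * U 1 0 0 * n1 = U 2 0 0 * n1 * (U 1 0 0 * U 1 0 0) by decide, rmul, rmul, rmul, ha, ha]
  have q3 : ρ n1⁻¹ (ρ (U 1 0 0) (ρ (U 1 0 0) (ρ n1 v))) = η • ρ (U 1 0 0) (ρ n1 v) := by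
    rw [← rmul, ← rmul, ← rmul, show n1⁻¹ * U 1 0 0 * U 1 0 0 * n1 = U 1 0 0 * n1 * (z1 * U 1 0 0) by decide, rmul, rmul,
      rmul, ha, hz, map_smul, map_smul]
  rw [q1, q2, q3, map_smul, e0_U, e0_U, h1, av_apply, h, smul_zero, add_zero, add_zero, e0_fix ρ h3 hv] at h4
  exact h4

/-- `e0 (n₂ v) ≠ 0` for an eigenvector `v` of `z₂` -/
theorem e0_n2_ne (h3 : (3 : F) ≠ 0) {v : V} (hv : v ∈ D0 ρ) {η : F} (hz : ρ z2 v = η • v) (h : e0 ρ (ρ n2 v) = 0) :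
    v = 0 := by
  have ha : ρ (U 1 0 0) v = v := hv.2.1
  have hb : ρ (U 0 1 0) v = v := hv.2.2
  have hc : ρ (U 0 0 1) v = v := hv.1
  have hc2 : ρ (U 0 0 1) (ρ n2 v) = ρ n2 v := by
    rw [← rmul, show U 0 0 1 * n2 = n2 * (U 1 0 0 * U 1 0 0) by decide, rmul, rmul, ha, ha]
  have ha2 : ρ (U 1 0 0) (ρ n2 v) = ρ n2 v := by
    rw [← rmul, show U 1 0 0 * n2 = n2 * U 0 0 1 by decide, rmul, hc]
  have h1 : e0 ρ (ρ n2 v) = av (ρ (U 0 1 0)) (ρ n2 v) := by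
    rw [e0_apply, av_fix h3 hc2, av_ab ρ hc2, av_fix h3 ha2]
  rw [h1, av_apply] at h
  have h2 : ρ n2 v + ρ (U 0 1 0) (ρ n2 v) + ρ (U 0 1 0) (ρ (U 0 1 0) (ρ n2 v)) = 0 :=
    (smul_eq_zero.1 h).resolve_left (inv_ne_zero h3)
  have h4 := congrArg (fun y => e0 ρ (ρ n2⁻¹ y)) h2
  simp only [map_add, map_zero] at h4
  have q1 : ρ n2⁻¹ (ρ n2 v) = v := rinv ρ _ _
  have q2 : ρ n2⁻¹ (ρ (U 0 1 0) (ρ n2 v)) = ρ (U 0 2 0) (ρ n2 v) := by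
    rw [← rmul, ← rmul, show n2⁻¹ * U 0 1 0 * n2 = U 0 2 0 * n2 * (U 0 1 0 * U 0 1 0) by decide, rmul, rmul, rmul, hb, hb]
  have q3 : ρ n2⁻¹ (ρ (U 0 1 0) (ρ (U 0 1 0) (ρ n2 v))) = η • ρ (U 0 1 0) (ρ n2 v) := by
    rw [← rmul, ← rmul, ← rmul, show n2⁻¹ * U 0 1 0 * U 0 1 0 * n2 = U 0 1 0 * n2 * (z2 * U 0 1 0) by decide, rmul, rmul,
      rmul, hb, hz, map_smul, map_smul]
  rw [q1, q2, q3, map_smul, e0_U, e0_U, h1, av_apply, h, smul_zero, add_zero, add_zero, e0_fix ρ h3 hv] at h4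
  exact h4

/-- eigenvectors of the torus -/
structure Eg (η₁ η₂ : F) (v : V) : Prop where
  mem : v ∈ D0 ρ
  ne : v ≠ 0
  e₁ : ρ z1 v = η₁ • v
  e₂ : ρ z2 v = η₂ • v

variable {ρ}

theorem Eg.t1 (h3 : (3 : F) ≠ 0) {η₁ η₂ : F} {v : V} (h : Eg ρ η₁ η₂ v) : Eg ρ η₁ (η₁ * η₂) (e0 ρ (ρ n1 v)) := by
  refine ⟨e0_mem ρ _, fun h0 => h.ne (e0_n1_ne ρ h3 h.mem h.e₁ h0), ?_, ?_⟩
  · rw [← e0_z1, comm_of ρ (by decide), h.e₁, map_smul, map_smul]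
  · rw [← e0_z2, ← rmul, show z2 * n1 = n1 * (z1 * z2) by decide, rmul, rmul, h.e₂, map_smul, h.e₁, smul_smul, map_smul,
      map_smul, mul_comm]

theorem Eg.t2 (h3 : (3 : F) ≠ 0) {η₁ η₂ : F} {v : V} (h : Eg ρ η₁ η₂ v) : Eg ρ (η₁ * η₂) η₂ (e0 ρ (ρ n2 v)) := by
  refine ⟨e0_mem ρ _, fun h0 => h.ne (e0_n2_ne ρ h3 h.mem h.e₂ h0), ?_, ?_⟩
  · rw [← e0_z1, ← rmul, show z1 * n2 = n2 * (z1 * z2) by decide, rmul, rmul, h.e₂, map_smul, h.e₁, smul_smul, map_smul,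
      map_smul, mul_comm]
  · rw [← e0_z2, comm_of ρ (by decide), h.e₂, map_smul, map_smul]

variable (ρ)

theorem exists_eg (h3 : (3 : F) ≠ 0) (hne : D0 ρ ≠ ⊥) : ∃ η₁ η₂ : F, (η₁ = 1 ∨ η₁ = -1) ∧ (η₂ = 1 ∨ η₂ = -1) ∧
    ∃ v, Eg ρ η₁ η₂ v := by
  obtain ⟨v, hv, hv0⟩ := (Submodule.ne_bot_iff _).1 hne
  obtain ⟨η₁, h1, v₁, m1, n1, k1⟩ : ∃ η₁ : F, (η₁ = 1 ∨ η₁ = -1) ∧ ∃ v₁ ∈ D0 ρ, v₁ ≠ 0 ∧ ρ z1 v₁ = η₁ • v₁ := by
    by_cases h : v + ρ z1 v = 0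
    · refine ⟨-1, Or.inr rfl, v, hv, hv0, ?_⟩
      rw [neg_smul, one_smul]
      exact (neg_eq_of_add_eq_zero_right h).symm
    · refine ⟨1, Or.inl rfl, _, (D0 ρ).add_mem hv (z1_D0 ρ hv h3), h, ?_⟩
      rw [map_add, r2 ρ z1_sq, rone, one_smul, add_comm]
  obtain ⟨η₂, h2, v₂, m2, n2, k2, k3⟩ : ∃ η₂ : F, (η₂ = 1 ∨ η₂ = -1) ∧ ∃ v₂ ∈ D0 ρ, v₂ ≠ 0 ∧ ρ z1 v₂ = η₁ • v₂ ∧
      ρ z2 v₂ = η₂ • v₂ := by
    by_cases h : v₁ + ρ z2 v₁ = 0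
    · refine ⟨-1, Or.inr rfl, v₁, m1, n1, k1, ?_⟩
      rw [neg_smul, one_smul]
      exact (neg_eq_of_add_eq_zero_right h).symm
    · refine ⟨1, Or.inl rfl, _, (D0 ρ).add_mem m1 (z2_D0 ρ m1 h3), h, ?_, ?_⟩
      · rw [map_add, comm_of ρ (show z1 * z2 = z2 * z1 by decide), k1, map_smul, smul_add]
      · rw [map_add, r2 ρ z2_sq, rone, one_smul, add_comm]
  exact ⟨η₁, η₂, h1, h2, v₂, m2, n2, k2, k3⟩

/-- **A vector fixed by the Borel subgroup.** -/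
theorem exists_B (h3 : (3 : F) ≠ 0) (hne : D0 ρ ≠ ⊥) (hd : finrank F (D0 ρ) ≤ 2) : ∃ v, Eg ρ 1 1 v := by
  obtain ⟨η₁, η₂, h1, h2, v, hv⟩ := exists_eg ρ h3 hne
  by_cases h11 : (-1 : F) = 1
  · rw [h11, or_self] at h1 h2
    subst h1; subst h2
    exact ⟨v, hv⟩
  by_cases hc : η₁ = 1 ∧ η₂ = 1
  · rw [hc.1, hc.2] at hv
    exact ⟨v, hv⟩
  exfalso
  -- all non-trivial characters occur
  have key : ∃ x y z, Eg ρ (-1) 1 x ∧ Eg ρ (-1) (-1) y ∧ Eg ρ 1 (-1) z := by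
    rcases h1 with h1 | h1 <;> rcases h2 with h2 | h2
    · exact absurd ⟨h1, h2⟩ hc
    · subst h1; subst h2
      have y := hv.t2 h3
      rw [one_mul] at y
      have x := y.t1 h3
      rw [neg_mul_neg, one_mul] at x
      exact ⟨_, _, _, x, y, hv⟩
    · subst h1; subst h2
      have y := hv.t1 h3
      rw [mul_one] at y
      have z := y.t2 h3
      rw [neg_mul_neg, one_mul] at z
      exact ⟨_, _, _, hv, y, z⟩
    · subst h1; subst h2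
      have x := hv.t1 h3
      have z := hv.t2 h3
      rw [neg_mul_neg, one_mul] at x z
      exact ⟨_, _, _, x, hv, z⟩
  obtain ⟨x, y, z, hx, hy, hz⟩ := key
  have h2' : (2 : F) ≠ 0 := by
    intro h
    apply h11
    linear_combination -h
  have hli : LinearIndependent F ![(⟨x, hx.mem⟩ : D0 ρ), ⟨y, hy.mem⟩, ⟨z, hz.mem⟩] := by
    rw [Fintype.linearIndependent_iff]
    intro g hg
    rw [Fin.sum_univ_three] at hg
    have h4 : g 0 • x + g 1 • y + g 2 • z = 0 := congrArg Subtype.val hg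
    have h5 := congrArg (ρ z1) h4
    have h6 := congrArg (ρ z2) h4
    rw [map_add, map_add, map_smul, map_smul, map_smul, hx.e₁, hy.e₁, hz.e₁, map_zero] at h5
    rw [map_add, map_add, map_smul, map_smul, map_smul, hx.e₂, hy.e₂, hz.e₂, map_zero] at h6
    have h7 : ((2 : F) * g 2) • z = 0 := by linear_combination (norm := module) h4 + h5
    have h8 : ((2 : F) * g 0) • x = 0 := by linear_combination (norm := module) h4 + h6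
    have g2 : g 2 = 0 := ((smul_eq_zero.1 h7).resolve_right hz.ne |> mul_eq_zero.1).resolve_left h2'
    have g0 : g 0 = 0 := ((smul_eq_zero.1 h8).resolve_right hx.ne |> mul_eq_zero.1).resolve_left h2'
    rw [g2, g0, zero_smul, zero_smul, zero_add, add_zero] at h4
    have g1 : g 1 = 0 := (smul_eq_zero.1 h4).resolve_right hy.ne
    intro i
    fin_cases i
    · exact g0
    · exact g1
    · exact g2
  have h9 := hli.fintype_card_le_finrank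
  rw [Fintype.card_fin] at h9
  omega

end

end Cfsg.Agent.H175.LD
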