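import Cfsg.Agent.H175.LD.Hecke

/-!
# Matrix coefficients of `B`-fixed vectors for `SL₃(3)` (helper175)
-/

set_option autoImplicit false
set_option linter.unusedSectionVars false

namespace Cfsg.Agent.H175.LD

open Module

section

variable {F : Type*} [Field F] {V : Type*} [AddCommGroup V] [Module F V] [FiniteDimensional F V]
variable (ρ : X3 →* (V →ₗ[F] V))

/-- fixed by the Borel subgroup -/
structure FB (v : V) : Prop where
  a : ρ (U 1 0 0) v = v
  b : ρ (U 0 1 0) v = v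
  c : ρ (U 0 0 1) v = v
  z₁ : ρ z1 v = v
  z₂ : ρ z2 v = v

variable {ρ}

theorem FB.mem {v : V} (h : FB ρ v) : v ∈ D0 ρ := ⟨h.c, h.a, h.b⟩

theorem Eg.fb {v : V} (h : Eg ρ 1 1 v) : FB ρ v :=
  ⟨h.mem.2.1, h.mem.2.2, h.mem.1, by rw [h.e₁, one_smul], by rw [h.e₂, one_smul]⟩

/-- all elements of the Borel subgroup fix `v` -/
theorem FB.up {v : V} (h : FB ρ v) {g : X3} (hg : Up g) : ρ g v = v := by
  obtain ⟨i, j, k, d, rfl⟩ := up_eq hg
  let S : Subgroup X3 :=
    { carrier := {g | ρ g v = v}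
      one_mem' := rone ρ v
      mul_mem' := fun {x y} hx hy => by
        change ρ (x * y) v = v
        rw [rmul, show ρ y v = v from hy, show ρ x v = v from hx]
      inv_mem' := fun {x} hx => by
        change ρ x⁻¹ v = v
        apply rinj ρ x
        rw [rinv', show ρ x v = v from hx] }
  have h1 : U i j k * dg d ∈ S := S.mul_mem (U_mem h.a h.b h.c _ _ _) (dg_mem h.z₁ h.z₂ _)
  exact h1

instance decUp : DecidablePred Up := fun b => inferInstanceAs (Decidable (b.1 1 0 = 0 ∧ b.1 2 0 = 0 ∧ b.1 2 1 = 0))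

theorem FB.coset {v : V} (h : FB ρ v) {g p q : X3} (e : Up (q⁻¹ * (g * p))) : ρ g (ρ p v) = ρ q v := by
  rw [← rmul, show g * p = q * (q⁻¹ * (g * p)) by group, rmul, h.up e]

theorem FB.n1_add {v : V} (h : FB ρ v) : FB ρ (ρ 1 v + ρ n1 v + ρ (U 1 0 0 * n1) v + ρ (U 2 0 0 * n1) v) ∧
    ρ n1 (ρ 1 v + ρ n1 v + ρ (U 1 0 0 * n1) v + ρ (U 2 0 0 * n1) v) =
      ρ 1 v + ρ n1 v + ρ (U 1 0 0 * n1) v + ρ (U 2 0 0 * n1) v := by
  refine ⟨⟨?_, ?_, ?_, ?_, ?_⟩, ?_⟩
  · rw [map_add, map_add, map_add, h.coset (q := 1) (by decide), h.coset (q := U 1 0 0 * n1) (by decide),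
      h.coset (q := U 2 0 0 * n1) (by decide), h.coset (q := n1) (by decide)]
    abel
  · rw [map_add, map_add, map_add, h.coset (q := 1) (by decide), h.coset (q := n1) (by decide),
      h.coset (q := U 1 0 0 * n1) (by decide), h.coset (q := U 2 0 0 * n1) (by decide)]
  · rw [map_add, map_add, map_add, h.coset (q := 1) (by decide), h.coset (q := n1) (by decide),
      h.coset (q := U 1 0 0 * n1) (by decide), h.coset (q := U 2 0 0 * n1) (by decide)]
  · rw [map_add, map_add, map_add, h.coset (q := 1) (by decide), h.coset (q := n1) (by decide),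
      h.coset (q := U 1 0 0 * n1) (by decide), h.coset (q := U 2 0 0 * n1) (by decide)]
  · rw [map_add, map_add, map_add, h.coset (q := 1) (by decide), h.coset (q := n1) (by decide),
      h.coset (q := U 2 0 0 * n1) (by decide), h.coset (q := U 1 0 0 * n1) (by decide)]
    abel
  · rw [map_add, map_add, map_add, h.coset (q := n1) (by decide), h.coset (q := 1) (by decide),
      h.coset (q := U 2 0 0 * n1) (by decide), h.coset (q := U 1 0 0 * n1) (by decide)]
    abel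

theorem FB.n2_add {v : V} (h : FB ρ v) : FB ρ (ρ 1 v + ρ n2 v + ρ (U 0 1 0 * n2) v + ρ (U 0 2 0 * n2) v) ∧
    ρ n2 (ρ 1 v + ρ n2 v + ρ (U 0 1 0 * n2) v + ρ (U 0 2 0 * n2) v) =
      ρ 1 v + ρ n2 v + ρ (U 0 1 0 * n2) v + ρ (U 0 2 0 * n2) v := by
  refine ⟨⟨?_, ?_, ?_, ?_, ?_⟩, ?_⟩
  · rw [map_add, map_add, map_add, h.coset (q := 1) (by decide), h.coset (q := n2) (by decide),
      h.coset (q := U 0 1 0 * n2) (by decide), h.coset (q := U 0 2 0 * n2) (by decide)]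
  · rw [map_add, map_add, map_add, h.coset (q := 1) (by decide), h.coset (q := U 0 1 0 * n2) (by decide),
      h.coset (q := U 0 2 0 * n2) (by decide), h.coset (q := n2) (by decide)]
    abel
  · rw [map_add, map_add, map_add, h.coset (q := 1) (by decide), h.coset (q := n2) (by decide),
      h.coset (q := U 0 1 0 * n2) (by decide), h.coset (q := U 0 2 0 * n2) (by decide)]
  · rw [map_add, map_add, map_add, h.coset (q := 1) (by decide), h.coset (q := n2) (by decide),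
      h.coset (q := U 0 2 0 * n2) (by decide), h.coset (q := U 0 1 0 * n2) (by decide)]
    abel
  · rw [map_add, map_add, map_add, h.coset (q := 1) (by decide), h.coset (q := n2) (by decide),
      h.coset (q := U 0 1 0 * n2) (by decide), h.coset (q := U 0 2 0 * n2) (by decide)]
  · rw [map_add, map_add, map_add, h.coset (q := n2) (by decide), h.coset (q := 1) (by decide),
      h.coset (q := U 0 2 0 * n2) (by decide), h.coset (q := U 0 1 0 * n2) (by decide)]
    abel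

/-- no vectors fixed by a maximal parabolic subgroup -/
structure NoP (ρ : X3 →* (V →ₗ[F] V)) : Prop where
  h₁ : ∀ v, FB ρ v → ρ n1 v = v → v = 0
  h₂ : ∀ v, FB ρ v → ρ n2 v = v → v = 0

theorem FB.t1 (h3 : (3 : F) ≠ 0) (hP : NoP ρ) {v : V} (h : FB ρ v) : e0 ρ (ρ n1 v) = (-(3 : F)⁻¹) • v := by
  have h1 := congrArg (e0 ρ) (hP.h₁ _ h.n1_add.1 h.n1_add.2)
  rw [map_add, map_add, map_add, rmul, rmul, e0_U, e0_U, rone, map_zero, e0_fix ρ h3 h.mem] at h1
  have h2 : (3 : F) • e0 ρ (ρ n1 v) = -v := by linear_combination (norm := module) h1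
  rw [neg_smul, ← smul_neg, ← h2, smul_smul, inv_mul_cancel₀ h3, one_smul]

theorem FB.t2 (h3 : (3 : F) ≠ 0) (hP : NoP ρ) {v : V} (h : FB ρ v) : e0 ρ (ρ n2 v) = (-(3 : F)⁻¹) • v := by
  have h1 := congrArg (e0 ρ) (hP.h₂ _ h.n2_add.1 h.n2_add.2)
  rw [map_add, map_add, map_add, rmul, rmul, e0_U, e0_U, rone, map_zero, e0_fix ρ h3 h.mem] at h1
  have h2 : (3 : F) • e0 ρ (ρ n2 v) = -v := by linear_combination (norm := module) h1
  rw [neg_smul, ← smul_neg, ← h2, smul_smul, inv_mul_cancel₀ h3, one_smul]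

/-- length -/
def ln (k : Fin 6) : ℕ := ![0, 1, 1, 2, 2, 3] k

/-- **The matrix coefficient.** -/
theorem FB.coef (h3 : (3 : F) ≠ 0) (hP : NoP ρ) {v : V} (h : FB ρ v) (k : Fin 6) :
    e0 ρ (ρ (wl k) v) = (-(3 : F)⁻¹) ^ ln k • v := by
  have t1 := h.t1 h3 hP
  have t2 := h.t2 h3 hP
  have h12 : e0 ρ (ρ s12 v) = ((-(3 : F)⁻¹) ^ 2) • v := by
    rw [← n1_n2, rmul, ← e0_n1_e0 ρ h3 (h.coset (q := n2) (by decide)), t2, map_smul, map_smul, t1, smul_smul, pow_two]
  have h21 : e0 ρ (ρ s21 v) = ((-(3 : F)⁻¹) ^ 2) • v := by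
    rw [← n2_n1, rmul, ← e0_n2_e0 ρ h3 (h.coset (q := n1) (by decide)), t1, map_smul, map_smul, t2, smul_smul, pow_two]
  fin_cases k
  · change e0 ρ (ρ 1 v) = (-(3 : F)⁻¹) ^ 0 • v
    rw [rone, pow_zero, one_smul, e0_fix ρ h3 h.mem]
  · change e0 ρ (ρ n1 v) = (-(3 : F)⁻¹) ^ 1 • v
    rw [pow_one, t1]
  · change e0 ρ (ρ n2 v) = (-(3 : F)⁻¹) ^ 1 • v
    rw [pow_one, t2]
  · exact h12
  · exact h21
  · change e0 ρ (ρ s0 v) = (-(3 : F)⁻¹) ^ 3 • v
    rw [← n1_s21, rmul, ← e0_n1_e0 ρ h3 (h.coset (q := s21) (by decide)), h21, map_smul, map_smul, t1, smul_smul,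
      ← pow_succ]

theorem FB.coef' (h3 : (3 : F) ≠ 0) (hP : NoP ρ) {v : V} (h : FB ρ v) {g : X3} {i j k : ZMod 3} {w : Fin 6}
    (e : Up ((U i j k * wl w)⁻¹ * g)) : e0 ρ (ρ g v) = (-(3 : F)⁻¹) ^ ln w • v := by
  rw [show g = U i j k * wl w * ((U i j k * wl w)⁻¹ * g) by group, rmul, h.up e, rmul, e0_U, h.coef h3 hP]

/-- all values of the coefficient -/
theorem FB.coef_all (h3 : (3 : F) ≠ 0) (hP : NoP ρ) {v : V} (h : FB ρ v) (g : X3) :
    ∃ m : ℕ, e0 ρ (ρ g v) = (-(3 : F)⁻¹) ^ m • v := by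
  obtain ⟨i, j, k, w, b, hb, rfl⟩ := bruhat g
  refine ⟨ln w, h.coef' h3 hP (i := i) (j := j) (k := k) ?_⟩
  rwa [inv_mul_cancel_left]

end

end Cfsg.Agent.H175.LD
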