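import Cfsg.Agent.H175.LD.Dim

/-!
# The Sylow 3-subgroup of `SL₃(3)` has fixed vectors (helper175)
-/

set_option autoImplicit false
set_option linter.unusedSectionVars false

namespace Cfsg.Agent.H175.LD

open Module

section

variable {F : Type*} [Field F] {V : Type*} [AddCommGroup V] [Module F V] [FiniteDimensional F V]
variable (ρ : X3 →* (V →ₗ[F] V))

def n13 : X3 := ⟨!![0, 0, -1; 0, 1, 0; 1, 0, 0], by decide⟩

def lw (r : Fin 8) : X3 := ![1, U 0 1 0, (L 0 1 0)⁻¹ * U 0 1 0, L 0 1 0 * U 0 1 0, U 0 1 0 * L 0 1 0 * U 0 1 0,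
  L 0 1 0 * (U 0 1 0)⁻¹, (U 0 1 0)⁻¹, (L 0 1 0)⁻¹ * (U 0 1 0)⁻¹] r

theorem lw_spec : ∀ i j : ZMod 3, ¬ (i = 0 ∧ j = 0) → ∃ r, lw r * L 0 0 1 = L i 0 j * lw r := by
  decide +kernel

/-- the projection onto the fixed space of `⟨a, c⟩` -/
noncomputable def e1 : V →ₗ[F] V := av (ρ (U 1 0 0)) ∘ₗ av (ρ (U 0 0 1))

theorem e1_apply (x : V) : e1 ρ x = av (ρ (U 1 0 0)) (av (ρ (U 0 0 1)) x) := rfl

theorem av_conj {g h k : X3} (e : g * k = k * h) (x : V) : av (ρ g) (ρ k x) = ρ k (av (ρ h) x) := by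
  have h1 : ∀ y, ρ g (ρ k y) = ρ k (ρ h y) := by
    intro y
    rw [← rmul, e, rmul]
  simp only [av_apply, map_smul, map_add, h1]

theorem av_comm {g k : X3} (e : g * k = k * g) (x : V) : av (ρ g) (ρ k x) = ρ k (av (ρ g) x) := av_conj ρ e x

theorem av_fr {g : X3} (h : g * g * g = 1) (x : V) : ρ g (av (ρ g) x) = av (ρ g) x := fix_av (cube ρ h x)

/-- conjugation on a vector fixed by `c` -/
theorem av_comm' {g k c : X3} (e : g * k = k * (g * c)) (e' : g * c = c * g) {x : V} (hc : ρ c x = x) :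
    av (ρ g) (ρ k x) = ρ k (av (ρ g) x) := by
  have h1 : ∀ y, ρ c y = y → ρ g (ρ k y) = ρ k (ρ g y) := by
    intro y hy
    rw [← rmul, e, rmul, rmul, hy]
  have h2 : ρ c (ρ g x) = ρ g x := by rw [← rmul, ← e', rmul, hc]
  simp only [av_apply, map_smul, map_add]
  rw [h1 _ hc, h1 _ h2]

theorem e1_swap (x : V) : av (ρ (U 0 0 1)) (av (ρ (U 1 0 0)) x) = e1 ρ x := by
  rw [e1_apply]
  simp only [av_apply, map_smul, map_add]
  simp only [comm_of ρ (show U 1 0 0 * U 0 0 1 = U 0 0 1 * U 1 0 0 by decide)]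
  module

theorem e1_mem (x : V) : e1 ρ x ∈ Dc ρ ⊓ Da ρ := by
  refine ⟨?_, ?_⟩
  · change ρ (U 0 0 1) (e1 ρ x) = e1 ρ x
    rw [← e1_swap]
    exact av_fr ρ (by decide) _
  · change ρ (U 1 0 0) (e1 ρ x) = e1 ρ x
    exact av_fr ρ (by decide) _

theorem e1_fix (h3 : (3 : F) ≠ 0) {x : V} (hx : x ∈ Dc ρ ⊓ Da ρ) : e1 ρ x = x := by
  rw [e1_apply, av_fix h3 (show ρ (U 0 0 1) x = x from hx.1), av_fix h3 (show ρ (U 1 0 0) x = x from hx.2)]

/-- elements commuting with `e1` -/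
def Lv : Subgroup X3 where
  carrier := {k | ∀ x, e1 ρ (ρ k x) = ρ k (e1 ρ x)}
  one_mem' := fun x => by rw [rone, rone]
  mul_mem' := fun {a b} ha hb x => by
    rw [rmul, ha, hb, ← rmul]
  inv_mem' := fun {a} ha x => by
    apply rinj ρ a
    rw [← ha, rinv', rinv']

theorem b_mem_Lv : U 0 1 0 ∈ Lv ρ := by
  intro x
  rw [e1_apply, av_comm ρ (by decide), e1_apply, av_comm' ρ (c := U 0 0 1) (by decide) (by decide) (av_fr ρ (by decide) x)]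

theorem b'_mem_Lv : L 0 1 0 ∈ Lv ρ := by
  intro x
  rw [← e1_swap, av_comm ρ (by decide), ← e1_swap, av_comm' ρ (c := U 1 0 0) (by decide) (by decide)
    (av_fr ρ (by decide) x)]

theorem lw_mem (r : Fin 8) : lw r ∈ Lv ρ := by
  have h1 := b_mem_Lv ρ
  have h2 := b'_mem_Lv ρ
  have h3 := (Lv ρ).inv_mem h1
  have h4 := (Lv ρ).inv_mem h2
  fin_cases r
  · exact (Lv ρ).one_mem
  · exact h1
  · exact (Lv ρ).mul_mem h4 h1
  · exact (Lv ρ).mul_mem h2 h1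
  · exact (Lv ρ).mul_mem ((Lv ρ).mul_mem h1 h2) h1
  · exact (Lv ρ).mul_mem h2 h3
  · exact h3
  · exact (Lv ρ).mul_mem h4 h3

theorem Lv_stable (h3 : (3 : F) ≠ 0) {k : X3} (hk : k ∈ Lv ρ) {x : V} (hx : x ∈ Dc ρ ⊓ Da ρ) : ρ k x ∈ Dc ρ ⊓ Da ρ := by
  have h := hk x
  rw [e1_fix ρ h3 hx] at h
  rw [← h]
  exact e1_mem ρ _

/-- translates of the fixed space -/
theorem e1_c' (h3 : (3 : F) ≠ 0) (h0 : D0 ρ = ⊥) {x : V} (hx : x ∈ Dc ρ ⊓ Da ρ) : e1 ρ (ρ (L 0 0 1) x) = 0 := by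
  have hc : ρ (U 0 0 1) x = x := hx.1
  have ha : ρ (U 1 0 0) x = x := hx.2
  have h1 : ρ (L 0 0 1) x = ρ (U 0 0 1) (ρ n13 x) := by
    rw [show L 0 0 1 = U 0 0 1 * n13 * U 0 0 1 by decide, rmul, rmul, hc]
  have h2 : ∀ y, e1 ρ (ρ (U 0 0 1) y) = e1 ρ y := by
    intro y
    rw [e1_apply, e1_apply, av_comm ρ rfl, av_fr ρ (by decide)]
  rw [h1, h2, e1_apply, av_conj ρ (h := L 0 0 2) (by decide), av_conj ρ (h := L 0 2 0) (by decide)]
  have h4 : av (ρ (L 0 2 0)) (av (ρ (L 0 0 2)) x) = av (ρ (L 0 0 2)) (av (ρ (L 0 2 0)) x) := by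
    simp only [av_apply, map_smul, map_add]
    simp only [comm_of ρ (show L 0 2 0 * L 0 0 2 = L 0 0 2 * L 0 2 0 by decide)]
    module
  have h5 : av (ρ (L 0 2 0)) x = 0 := by
    set y := av (ρ (L 0 2 0)) x with hy
    have e1 : ρ (L 0 2 0) y = y := av_fr ρ (by decide) x
    have e2 : ρ (U 1 0 0) y = y := by
      rw [hy]
      simp only [av_apply, map_smul, map_add, comm_of ρ (show U 1 0 0 * L 0 2 0 = L 0 2 0 * U 1 0 0 by decide), ha]
    have e3 : ρ (U 0 0 1) y = y := by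
      have h6 : ∀ z, ρ (U 0 0 1) z = z → ρ (U 1 0 0) z = z → ρ (U 0 0 1) (ρ (L 0 2 0) z) = ρ (L 0 2 0) z := by
        intro z hz1 hz2
        rw [← rmul, show U 0 0 1 * L 0 2 0 = L 0 2 0 * (U 0 0 1 * (U 1 0 0 * U 1 0 0)) by decide, rmul, rmul, rmul, hz2,
          hz2, hz1]
      have h7 : ρ (U 1 0 0) (ρ (L 0 2 0) x) = ρ (L 0 2 0) x := by rw [comm_of ρ (by decide), ha]
      rw [hy, av_apply, map_smul, map_add, map_add, h6 _ (h6 _ hc ha) h7, h6 _ hc ha, hc]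
    have h8 : ρ n2 y ∈ D0 ρ := by
      refine ⟨?_, ?_, ?_⟩
      · change ρ (U 0 0 1) (ρ n2 y) = ρ n2 y
        rw [← rmul, show U 0 0 1 * n2 = n2 * (U 1 0 0 * U 1 0 0) by decide, rmul, rmul, e2, e2]
      · change ρ (U 1 0 0) (ρ n2 y) = ρ n2 y
        rw [← rmul, show U 1 0 0 * n2 = n2 * U 0 0 1 by decide, rmul, e3]
      · change ρ (U 0 1 0) (ρ n2 y) = ρ n2 y
        rw [← rmul, show U 0 1 0 * n2 = n2 * L 0 2 0 by decide, rmul, e1]
    rw [h0, Submodule.mem_bot] at h8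
    exact rinj ρ n2 (by rw [h8, map_zero])
  rw [h4, h5, map_zero, map_zero]

theorem e1_L (h3 : (3 : F) ≠ 0) (h0 : D0 ρ = ⊥) {i j : ZMod 3} (hij : ¬ (i = 0 ∧ j = 0)) {x : V}
    (hx : x ∈ Dc ρ ⊓ Da ρ) : e1 ρ (ρ (L i 0 j) x) = 0 := by
  obtain ⟨r, hr⟩ := lw_spec i j hij
  have h1 : L i 0 j = lw r * L 0 0 1 * (lw r)⁻¹ := by rw [hr, mul_inv_cancel_right]
  rw [h1, rmul, rmul, lw_mem ρ r, e1_c' ρ h3 h0 (Lv_stable ρ h3 ((Lv ρ).inv_mem (lw_mem ρ r)) hx), map_zero]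

/-- **The Sylow 3-subgroup has a fixed vector.** -/
theorem D0_ne_bot (h3 : (3 : F) ≠ 0) (hn : finrank F V ≤ 12) (hnt : ∃ g x, ρ g x ≠ x) : D0 ρ ≠ ⊥ := by
  intro h0
  obtain ⟨h1, h2, -⟩ := cases ρ h3 hn hnt
  rw [h0, finrank_bot] at h1 h2
  let Ψ : (ZMod 3 × ZMod 3 → (Dc ρ ⊓ Da ρ : Submodule F V)) →ₗ[F] V :=
    ∑ p : ZMod 3 × ZMod 3, (ρ (L p.1 0 p.2)) ∘ₗ (Submodule.subtype _) ∘ₗ (LinearMap.proj p)
  have hΨ : ∀ f, Ψ f = ∑ p : ZMod 3 × ZMod 3, ρ (L p.1 0 p.2) (f p : V) := by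
    intro f
    rw [LinearMap.sum_apply]
    rfl
  have hinj : Function.Injective Ψ := by
    rw [← LinearMap.ker_eq_bot, LinearMap.ker_eq_bot']
    intro f hf
    funext q
    apply Subtype.ext
    have h4 : e1 ρ (ρ (L (-q.1) 0 (-q.2)) (Ψ f)) = f q := by
      rw [hΨ, map_sum, map_sum, Finset.sum_eq_single q]
      · rw [← rmul, L_mul, neg_add_cancel, neg_add_cancel, L_zero, rone, e1_fix ρ h3 (f q).2]
      · intro p _ hp
        rw [← rmul, L_mul]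
        apply e1_L ρ h3 h0 _ (f p).2
        rintro ⟨h5, h6⟩
        apply hp
        ext
        · exact (neg_add_eq_zero.1 h5).symm
        · exact (neg_add_eq_zero.1 h6).symm
      · intro h; exact absurd (Finset.mem_univ _) h
    rw [← h4, hf, map_zero, map_zero]
    rfl
  have h5 := LinearMap.finrank_le_finrank_of_injective hinj
  rw [Module.finrank_pi_fintype, Finset.sum_const, Finset.card_univ, h2, h1] at h5
  have h6 : Fintype.card (ZMod 3 × ZMod 3) = 9 := by decide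
  rw [h6] at h5
  simp at h5

end

end Cfsg.Agent.H175.LD
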