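import Mathlib

/-!
# The trace on a deleted permutation module (helper175)
-/

set_option autoImplicit false
set_option linter.unusedSectionVars false

namespace Cfsg.Agent.H175.LD

open Module

/-- `V` spanned by `dim V + 1` vectors with sum zero; `T` permutes them: the trace is the number of fixed points minus
one. -/
theorem trace_sys {F : Type*} [Field F] {V : Type*} [AddCommGroup V] [Module F V] [FiniteDimensional F V]
    {Q : Type*} [Fintype Q] [DecidableEq Q] {w : Q → V} (hspan : Submodule.span F (Set.range w) = ⊤)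
    (hcard : Fintype.card Q = finrank F V + 1) (hsum : ∑ x, w x = 0) {T : V →ₗ[F] V} {σ : Equiv.Perm Q}
    (hT : ∀ x, T (w x) = w (σ x)) :
    LinearMap.trace F V T = ((Finset.univ.filter fun x => σ x = x).card : F) - 1 := by
  classical
  obtain ⟨x0⟩ : Nonempty Q := by
    rw [← Fintype.card_pos_iff]; omega
  have hw0 : w x0 = -∑ x : {x // x ≠ x0}, w x := by
    have h1 := Fintype.sum_eq_add_sum_subtype_ne w x0
    rw [hsum] at h1
    exact (neg_eq_of_add_eq_zero_left h1.symm).symm
  have hsp : ⊤ ≤ Submodule.span F (Set.range fun x : {x // x ≠ x0} => w x) := by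
    rw [← hspan, Submodule.span_le]
    rintro _ ⟨x, rfl⟩
    by_cases hx : x = x0
    · subst hx
      rw [hw0]
      exact Submodule.neg_mem _ (Submodule.sum_mem _ fun y _ => Submodule.subset_span ⟨y, rfl⟩)
    · exact Submodule.subset_span ⟨⟨x, hx⟩, rfl⟩
  have hc : Fintype.card {x // x ≠ x0} = finrank F V := by
    rw [Fintype.card_subtype_compl, Fintype.card_subtype_eq, hcard, Nat.add_sub_cancel]
  let b : Basis {x // x ≠ x0} F V := basisOfTopLeSpanOfCardEqFinrank _ hsp hc
  have hb : ∀ x, b x = w x := fun x => by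
    rw [coe_basisOfTopLeSpanOfCardEqFinrank]
  have hrepr : ∀ (x : Q) (i : {x // x ≠ x0}), b.repr (w x) i = (if x = i then 1 else 0) - (if x = x0 then 1 else 0) := by
    intro x i
    by_cases hx : x = x0
    · subst hx
      rw [hw0, map_neg, map_sum, Finsupp.neg_apply, Finsupp.finsetSum_apply, if_neg (fun h => i.2 h.symm), if_pos rfl,
        zero_sub]
      congr 1
      rw [Finset.sum_eq_single i]
      · rw [← hb, Basis.repr_self, Finsupp.single_eq_same]
      · intro j _ hj
        rw [← hb, Basis.repr_self, Finsupp.single_eq_of_ne hj.symm]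
      · intro h; exact absurd (Finset.mem_univ _) h
    · rw [if_neg hx, sub_zero, ← hb ⟨x, hx⟩, Basis.repr_self]
      by_cases hi : x = i
      · rw [if_pos hi, show (⟨x, hx⟩ : {x // x ≠ x0}) = i from Subtype.ext hi, Finsupp.single_eq_same]
      · rw [if_neg hi, Finsupp.single_eq_of_ne (fun h => hi (congrArg Subtype.val h).symm)]
  rw [LinearMap.trace_eq_matrix_trace F b, Matrix.trace]
  have h1 : ∀ i : {x // x ≠ x0}, (LinearMap.toMatrix b b T).diag i =
      (if σ i = i then 1 else 0) - (if σ i = x0 then 1 else 0) := by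
    intro i
    rw [Matrix.diag_apply, LinearMap.toMatrix_apply, hb, hT, hrepr]
  rw [Finset.sum_congr rfl fun i _ => h1 i, Finset.sum_sub_distrib]
  have h2 := Fintype.sum_eq_add_sum_subtype_ne (fun x => if σ x = x then (1 : F) else 0) x0
  have h3 := Fintype.sum_eq_add_sum_subtype_ne (fun x => if σ x = x0 then (1 : F) else 0) x0
  have h4 : ∑ x, (if σ x = x0 then (1 : F) else 0) = 1 := by
    rw [Finset.sum_eq_single (σ.symm x0)]
    · rw [Equiv.apply_symm_apply, if_pos rfl]
    · intro y _ hy
      rw [if_neg]
      intro h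
      exact hy (by rw [← h, Equiv.symm_apply_apply])
    · intro h; exact absurd (Finset.mem_univ _) h
  have h5 : ∑ x, (if σ x = x then (1 : F) else 0) = ((Finset.univ.filter fun x => σ x = x).card : F) := by
    rw [Finset.sum_boole]
  rw [h4] at h3
  rw [h5] at h2
  linear_combination h3 - h2

end Cfsg.Agent.H175.LD
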