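import Cfsg.Agent.H175.LD.Perm
import Cfsg.Agent.H175.LD.Tr

/-!
# Irreducible representations of `SL₃(3)` of degree at most 12 in characteristic `≠ 3` (helper175)
-/

set_option autoImplicit false
set_option linter.unusedSectionVars false

namespace Cfsg.Agent.H175.LD

open Module Matrix

theorem wl_P1 : ∀ w, wl w ∈ P1s → w = 0 ∨ w = 2 := by decide +kernel

theorem wl_P2 : ∀ w, wl w ∈ P2s → w = 0 ∨ w = 1 := by decide +kernel

theorem U_P1 (i j k : ZMod 3) : U i j k ∈ P1s := ⟨rfl, rfl⟩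

theorem U_P2 (i j k : ZMod 3) : U i j k ∈ P2s := ⟨rfl, rfl⟩

theorem Up.P1 {b : X3} (h : Up b) : b ∈ P1s := ⟨h.1, h.2.1⟩

theorem Up.P2 {b : X3} (h : Up b) : b ∈ P2s := ⟨h.2.1, h.2.2⟩

theorem U_up (i j k : ZMod 3) : Up (U i j k) := ⟨rfl, rfl, rfl⟩

section

variable {F : Type*} [Field F] {V : Type*} [AddCommGroup V] [Module F V] [FiniteDimensional F V]
variable {ρ : X3 →* (V →ₗ[F] V)}

theorem FB.P1 {v : V} (h : FB ρ v) (hn : ρ n2 v = v) : ∀ k ∈ P1s, ρ k v = v := by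
  intro g hg
  obtain ⟨i, j, k, w, b, hb, rfl⟩ := bruhat g
  have h1 : wl w ∈ P1s := by
    have := P1s.mul_mem (P1s.mul_mem (P1s.inv_mem (U_P1 i j k)) hg) (P1s.inv_mem hb.P1)
    rwa [show (U i j k)⁻¹ * (U i j k * wl w * b) * b⁻¹ = wl w by group] at this
  rw [rmul, rmul, h.up hb]
  rcases wl_P1 w h1 with rfl | rfl
  · change ρ (U i j k) (ρ 1 v) = v
    rw [rone, h.up (U_up i j k)]
  · change ρ (U i j k) (ρ n2 v) = v
    rw [hn, h.up (U_up i j k)]

theorem FB.P2 {v : V} (h : FB ρ v) (hn : ρ n1 v = v) : ∀ k ∈ P2s, ρ k v = v := by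
  intro g hg
  obtain ⟨i, j, k, w, b, hb, rfl⟩ := bruhat g
  have h1 : wl w ∈ P2s := by
    have := P2s.mul_mem (P2s.mul_mem (P2s.inv_mem (U_P2 i j k)) hg) (P2s.inv_mem hb.P2)
    rwa [show (U i j k)⁻¹ * (U i j k * wl w * b) * b⁻¹ = wl w by group] at this
  rw [rmul, rmul, h.up hb]
  rcases wl_P2 w h1 with rfl | rfl
  · change ρ (U i j k) (ρ 1 v) = v
    rw [rone, h.up (U_up i j k)]
  · change ρ (U i j k) (ρ n1 v) = v
    rw [hn, h.up (U_up i j k)]

/-- **The irreducible representations of degree at most 12.** -/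
theorem main (h3 : (3 : F) ≠ 0) (hI : Irr ρ) (hnt : ∃ g x, ρ g x ≠ x) (hn : finrank F V ≤ 12) :
    (finrank F V = 11 ∧ (13 : F) = 0 ∧ NoP ρ ∧ ∃ v, FB ρ v ∧ v ≠ 0) ∨
    (finrank F V = 12 ∧ ∃ K : Subgroup X3, (K = P1s ∨ K = P2s) ∧ ∃ v, v ≠ 0 ∧ (∀ k ∈ K, ρ k v = v) ∧
      ∑ᶠ x, cv ρ K v x = 0) := by
  obtain ⟨h1, h2, hD⟩ := cases ρ h3 hn hnt
  have hne := D0_ne_bot ρ h3 hn hnt
  obtain ⟨v, hv⟩ := exists_B ρ h3 hne (by omega)
  have hpos : 0 < finrank F (D0 ρ) := Submodule.one_le_finrank_iff.2 hne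
  have hfb := hv.fb
  by_cases hP : NoP ρ
  · left
    have h4 := D0_one h3 hI hP hfb hv.ne
    have h5 : (2 : F) ≠ 0 := two_ne h3 hI hP (by omega) hfb hv.ne
    have h6 := rel13 h3 hP hD hfb hv.ne
    have h7 : (13 : F) = 0 := by
      have h8 : (2 : F) ^ 3 * 13 = 0 := by linear_combination h6
      exact (mul_eq_zero.1 h8).resolve_left (pow_ne_zero 3 h5)
    exact ⟨by omega, h7, hP, v, hfb, hv.ne⟩
  · right
    obtain ⟨K, hK, u, hu0, hu⟩ : ∃ K : Subgroup X3, (K = P1s ∨ K = P2s) ∧ ∃ u, u ≠ 0 ∧ (∀ k ∈ K, ρ k u = u) := by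
      by_contra hcon
      push Not at hcon
      apply hP
      refine ⟨fun u hu h8 => ?_, fun u hu h8 => ?_⟩
      · by_contra h0
        obtain ⟨k, hk, hk'⟩ := hcon P2s (Or.inr rfl) u h0
        exact hk' (hu.P2 h8 k hk)
      · by_contra h0
        obtain ⟨k, hk, hk'⟩ := hcon P1s (Or.inl rfl) u h0
        exact hk' (hu.P1 h8 k hk)
    have hidx : K.index = 13 := by
      rcases hK with rfl | rfl
      · exact index_P1
      · exact index_P2
    obtain ⟨h4, h5⟩ := perm_case h3 hI (by omega) hidx hu0 hu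
    exact ⟨by omega, K, hK, u, hu0, hu, h5 hn⟩

/-- degree 12 : the traces -/
theorem trace_twelve (hI : Irr ρ) (hn : finrank F V = 12) {K : Subgroup X3} (hidx : K.index = 13) {v : V} (hv0 : v ≠ 0)
    (hv : ∀ k ∈ K, ρ k v = v) (hs : ∑ᶠ x, cv ρ K v x = 0) (g : X3) :
    LinearMap.trace F V (ρ g) = (Nat.card {x : X3 ⧸ K // g • x = x} : F) - 1 := by
  classical
  have hfi : Finite (X3 ⧸ K) := Nat.finite_of_card_ne_zero (by
    change K.index ≠ 0
    rw [hidx]; norm_num)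
  have : Fintype (X3 ⧸ K) := Fintype.ofFinite _
  have hcard : Fintype.card (X3 ⧸ K) = 13 := by
    rw [← Nat.card_eq_fintype_card]; exact hidx
  rw [finsum_eq_sum_of_fintype] at hs
  rw [trace_sys (span_cv hI hv0 hv) (by rw [hcard, hn]) hs (T := ρ g) (σ := MulAction.toPerm g)
    (fun x => cv_smul hv g x)]
  congr 2
  rw [Nat.card_eq_fintype_card, Fintype.card_subtype]
  rfl

theorem trace_twelve_inv (hI : Irr ρ) (hn : finrank F V = 12) {K : Subgroup X3} (hidx : K.index = 13) {v : V}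
    (hv0 : v ≠ 0) (hv : ∀ k ∈ K, ρ k v = v) (hs : ∑ᶠ x, cv ρ K v x = 0) (g : X3) :
    LinearMap.trace F V (ρ g⁻¹) = LinearMap.trace F V (ρ g) := by
  rw [trace_twelve hI hn hidx hv0 hv hs, trace_twelve hI hn hidx hv0 hv hs]
  congr 2
  apply Nat.card_congr
  refine Equiv.subtypeEquivRight fun x => ?_
  rw [inv_smul_eq_iff, eq_comm]

end

end Cfsg.Agent.H175.LD
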