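import Cfsg.Agent.H175.LD.Eleven

/-!
# Points and lines of the projective plane of order 3 (helper175)

`P1s`, `P2s` : the stabilisers of a point, a line; index 13; `perm_case` : an irreducible representation with a vector
fixed by such a subgroup has degree at least 12, and in degree 12 it is the deleted permutation module.
-/

set_option autoImplicit false
set_option linter.unusedSectionVars false

namespace Cfsg.Agent.H175.LD

open Module Matrix

def rp1 : Fin 13 → X3 := ![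
  ⟨!![1, 0, 0; 0, 1, 0; 0, 0, 1], by decide⟩,
  ⟨!![0, 1, 0; -1, 0, 0; 0, 0, 1], by decide⟩,
  ⟨!![-1, 1, 0; -1, 0, 0; 0, 0, 1], by decide⟩,
  ⟨!![1, 1, 0; -1, 0, 0; 0, 0, 1], by decide⟩,
  ⟨!![0, 1, 0; 0, 0, 1; 1, 0, 0], by decide⟩,
  ⟨!![1, 1, 0; 0, 0, 1; 1, 0, 0], by decide⟩,
  ⟨!![-1, 1, 0; 0, 0, 1; 1, 0, 0], by decide⟩,
  ⟨!![0, 1, 0; 1, 0, 1; 1, 0, 0], by decide⟩,
  ⟨!![1, 1, 0; 1, 0, 1; 1, 0, 0], by decide⟩,
  ⟨!![-1, 1, 0; 1, 0, 1; 1, 0, 0], by decide⟩,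
  ⟨!![0, 1, 0; -1, 0, 1; 1, 0, 0], by decide⟩,
  ⟨!![1, 1, 0; -1, 0, 1; 1, 0, 0], by decide⟩,
  ⟨!![-1, 1, 0; -1, 0, 1; 1, 0, 0], by decide⟩]

def rp2 : Fin 13 → X3 := ![
  ⟨!![1, 0, 0; 0, 1, 0; 0, 0, 1], by decide⟩,
  ⟨!![1, 0, 0; 0, 0, 1; 0, -1, 0], by decide⟩,
  ⟨!![1, 0, 0; 0, -1, 1; 0, -1, 0], by decide⟩,
  ⟨!![1, 0, 0; 0, 1, 1; 0, -1, 0], by decide⟩,
  ⟨!![0, 0, 1; -1, 0, 0; 0, -1, 0], by decide⟩,
  ⟨!![0, -1, 1; -1, 0, 0; 0, -1, 0], by decide⟩,
  ⟨!![0, 1, 1; -1, 0, 0; 0, -1, 0], by decide⟩,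
  ⟨!![-1, 0, 1; -1, 0, 0; 0, -1, 0], by decide⟩,
  ⟨!![-1, -1, 1; -1, 0, 0; 0, -1, 0], by decide⟩,
  ⟨!![-1, 1, 1; -1, 0, 0; 0, -1, 0], by decide⟩,
  ⟨!![1, 0, 1; -1, 0, 0; 0, -1, 0], by decide⟩,
  ⟨!![1, -1, 1; -1, 0, 0; 0, -1, 0], by decide⟩,
  ⟨!![1, 1, 1; -1, 0, 0; 0, -1, 0], by decide⟩]


/-- the stabiliser of a point -/
def P1s : Subgroup X3 where
  carrier := {g | g.1 1 0 = 0 ∧ g.1 2 0 = 0}
  one_mem' := by decide
  mul_mem' := by
    rintro g h ⟨g1, g2⟩ ⟨h1, h2⟩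
    change (g.1 * h.1) 1 0 = 0 ∧ (g.1 * h.1) 2 0 = 0
    simp [Matrix.mul_apply, Fin.sum_univ_three, g1, g2, h1, h2]
  inv_mem' := by
    rintro g ⟨g1, g2⟩
    change (adjugate g.1) 1 0 = 0 ∧ (adjugate g.1) 2 0 = 0
    rw [Matrix.adjugate_fin_three]
    simp [g1, g2]

/-- the stabiliser of a line -/
def P2s : Subgroup X3 where
  carrier := {g | g.1 2 0 = 0 ∧ g.1 2 1 = 0}
  one_mem' := by decide
  mul_mem' := by
    rintro g h ⟨g1, g2⟩ ⟨h1, h2⟩
    change (g.1 * h.1) 2 0 = 0 ∧ (g.1 * h.1) 2 1 = 0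
    simp [Matrix.mul_apply, Fin.sum_univ_three, g1, g2, h1, h2]
  inv_mem' := by
    rintro g ⟨g1, g2⟩
    change (adjugate g.1) 2 0 = 0 ∧ (adjugate g.1) 2 1 = 0
    rw [Matrix.adjugate_fin_three]
    simp [g1, g2]

instance decP1s : DecidablePred (· ∈ P1s) := fun g => inferInstanceAs (Decidable (g.1 1 0 = 0 ∧ g.1 2 0 = 0))

instance decP2s : DecidablePred (· ∈ P2s) := fun g => inferInstanceAs (Decidable (g.1 2 0 = 0 ∧ g.1 2 1 = 0))

theorem rp1_inj : ∀ r s, (rp1 r)⁻¹ * rp1 s ∈ P1s → r = s := by decide +kernel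

theorem rp2_inj : ∀ r s, (rp2 r)⁻¹ * rp2 s ∈ P2s → r = s := by decide +kernel

theorem rp1_col : ∀ x y z : ZMod 3, ¬ (x = 0 ∧ y = 0 ∧ z = 0) → ∃ r : Fin 13,
    ((rp1 r)⁻¹.1 *ᵥ ![x, y, z]) 1 = 0 ∧ ((rp1 r)⁻¹.1 *ᵥ ![x, y, z]) 2 = 0 := by
  decide +kernel

theorem rp2_row : ∀ x y z : ZMod 3, ¬ (x = 0 ∧ y = 0 ∧ z = 0) → ∃ r : Fin 13,
    (![x, y, z] ᵥ* (rp2 r).1) 0 = 0 ∧ (![x, y, z] ᵥ* (rp2 r).1) 1 = 0 := by
  decide +kernel

theorem index_P1 : P1s.index = 13 := by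
  have h : Function.Bijective (fun r : Fin 13 => (QuotientGroup.mk (rp1 r) : X3 ⧸ P1s)) := by
    refine ⟨fun r s hrs => rp1_inj r s (QuotientGroup.eq.1 hrs), fun q => ?_⟩
    induction q using QuotientGroup.induction_on with
    | H g =>
      have hc : ¬ (g.1 0 0 = 0 ∧ g.1 1 0 = 0 ∧ g.1 2 0 = 0) := by
        rintro ⟨h1, h2, h3⟩
        have := g.2
        rw [Matrix.det_fin_three, h1, h2, h3] at this
        simp at this
      obtain ⟨r, h1, h2⟩ := rp1_col _ _ _ hc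
      rw [mulVec_col] at h1 h2
      exact ⟨r, QuotientGroup.eq.2 ⟨h1, h2⟩⟩
  rw [Subgroup.index, ← Nat.card_eq_of_bijective _ h, Nat.card_eq_fintype_card, Fintype.card_fin]

theorem index_P2 : P2s.index = 13 := by
  have h : Function.Bijective (fun r : Fin 13 => (QuotientGroup.mk (rp2 r) : X3 ⧸ P2s)) := by
    refine ⟨fun r s hrs => rp2_inj r s (QuotientGroup.eq.1 hrs), fun q => ?_⟩
    induction q using QuotientGroup.induction_on with
    | H g =>
      have hc : ¬ ((g⁻¹).1 2 0 = 0 ∧ (g⁻¹).1 2 1 = 0 ∧ (g⁻¹).1 2 2 = 0) := by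
        rintro ⟨h1, h2, h3⟩
        have := (g⁻¹).2
        rw [Matrix.det_fin_three, h1, h2, h3] at this
        simp at this
      obtain ⟨r, h1, h2⟩ := rp2_row _ _ _ hc
      refine ⟨r, (QuotientGroup.eq.2 ?_).symm⟩
      constructor
      · change ((g⁻¹).1 * (rp2 r).1) 2 0 = 0
        rw [← h1, Matrix.mul_apply, Matrix.vecMul, dotProduct]
        simp [Fin.sum_univ_three]
      · change ((g⁻¹).1 * (rp2 r).1) 2 1 = 0
        rw [← h2, Matrix.mul_apply, Matrix.vecMul, dotProduct]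
        simp [Fin.sum_univ_three]
  rw [Subgroup.index, ← Nat.card_eq_of_bijective _ h, Nat.card_eq_fintype_card, Fintype.card_fin]

section

variable {F : Type*} [Field F] {V : Type*} [AddCommGroup V] [Module F V] [FiniteDimensional F V]
variable {ρ : X3 →* (V →ₗ[F] V)}

/-- the vectors indexed by the cosets -/
noncomputable def cv (ρ : X3 →* (V →ₗ[F] V)) (K : Subgroup X3) (v : V) (x : X3 ⧸ K) : V := ρ x.out v

theorem cv_smul {K : Subgroup X3} {v : V} (hv : ∀ k ∈ K, ρ k v = v) (g : X3) (x : X3 ⧸ K) :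
    ρ g (cv ρ K v x) = cv ρ K v (g • x) := by
  have h1 : ((g • x).out)⁻¹ * (g * x.out) ∈ K := by
    rw [← QuotientGroup.eq, QuotientGroup.out_eq']
    have : (QuotientGroup.mk (g * x.out) : X3 ⧸ K) = g • (QuotientGroup.mk x.out : X3 ⧸ K) := rfl
    rw [this, QuotientGroup.out_eq']
  unfold cv
  rw [← rmul, show g * x.out = (g • x).out * (((g • x).out)⁻¹ * (g * x.out)) by group, rmul, hv _ h1]

theorem cv_one {K : Subgroup X3} {v : V} (hv : ∀ k ∈ K, ρ k v = v) (g : X3) :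
    cv ρ K v (QuotientGroup.mk g) = ρ g v := by
  have h1 : (QuotientGroup.mk g : X3 ⧸ K).out⁻¹ * g ∈ K := by
    rw [← QuotientGroup.eq, QuotientGroup.out_eq']
  unfold cv
  nth_rw 2 [show g = (QuotientGroup.mk g : X3 ⧸ K).out * ((QuotientGroup.mk g : X3 ⧸ K).out⁻¹ * g) by group]
  rw [rmul, hv _ h1]

theorem span_cv (hI : Irr ρ) {K : Subgroup X3} {v : V} (hv0 : v ≠ 0) (hv : ∀ k ∈ K, ρ k v = v) :
    Submodule.span F (Set.range (cv ρ K v)) = ⊤ := by
  rw [eq_top_iff, ← hI.span hv0, Submodule.span_le]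
  rintro _ ⟨g, rfl⟩
  exact Submodule.subset_span ⟨QuotientGroup.mk g, cv_one hv g⟩

/-- the permutation representation -/
def pr (F : Type*) [Field F] (K : Subgroup X3) : X3 →* ((X3 ⧸ K → F) →ₗ[F] (X3 ⧸ K → F)) where
  toFun g := LinearMap.funLeft F F (fun x => g⁻¹ • x)
  map_one' := by
    ext f x
    simp [LinearMap.funLeft_apply]
  map_mul' g h := by
    ext f x
    simp [LinearMap.funLeft_apply, mul_smul]

theorem pr_apply (K : Subgroup X3) (g : X3) (f : X3 ⧸ K → F) (x : X3 ⧸ K) : pr F K g f x = f (g⁻¹ • x) := rfl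

theorem perm_case (h3 : (3 : F) ≠ 0) (hI : Irr ρ) (hn : 4 ≤ finrank F V) {K : Subgroup X3} (hK : K.index = 13) {v : V}
    (hv0 : v ≠ 0) (hv : ∀ k ∈ K, ρ k v = v) : 12 ≤ finrank F V ∧ (finrank F V ≤ 12 → ∑ᶠ x, cv ρ K v x = 0) := by
  classical
  have hfi : Finite (X3 ⧸ K) := Nat.finite_of_card_ne_zero (by
    change K.index ≠ 0
    rw [hK]; norm_num)
  have : Fintype (X3 ⧸ K) := Fintype.ofFinite _
  have hcard : Fintype.card (X3 ⧸ K) = 13 := by
    rw [← Nat.card_eq_fintype_card]; exact hK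
  let Φ : (X3 ⧸ K → F) →ₗ[F] V := Fintype.linearCombination F (cv ρ K v)
  have hΦ : ∀ f, Φ f = ∑ x, f x • cv ρ K v x := fun f => rfl
  have hsurj : LinearMap.range Φ = ⊤ := by
    rw [← span_cv hI hv0 hv]
    exact Fintype.range_linearCombination F (cv ρ K v)
  have hdim := LinearMap.finrank_range_add_finrank_ker Φ
  rw [hsurj, finrank_top, Module.finrank_fintype_fun_eq_card, hcard] at hdim
  have hequi : ∀ g f, Φ (pr F K g f) = ρ g (Φ f) := by
    intro g f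
    rw [hΦ, hΦ, map_sum, ← Equiv.sum_comp (MulAction.toPerm g)]
    refine Finset.sum_congr rfl fun x _ => ?_
    rw [pr_apply, MulAction.toPerm_apply, inv_smul_smul, map_smul, cv_smul hv]
  have hst : ∀ g, ∀ f ∈ LinearMap.ker Φ, pr F K g f ∈ LinearMap.ker Φ := by
    intro g f hf
    rw [LinearMap.mem_ker] at hf ⊢
    rw [hequi, hf, map_zero]
  let κ : X3 →* (LinearMap.ker Φ →ₗ[F] LinearMap.ker Φ) :=
    { toFun := fun g => (pr F K g).restrict (hst g)
      map_one' := by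
        ext f x
        rw [LinearMap.coe_restrict_apply, map_one]
        rfl
      map_mul' := fun g h => by
        ext f x
        rw [LinearMap.coe_restrict_apply, map_mul]
        rfl }
  have htriv : ∀ g, ∀ f ∈ LinearMap.ker Φ, pr F K g f = f := by
    intro g f hf
    have h1 := trivial_of_le κ h3 (by omega) g ⟨f, hf⟩
    exact congrArg Subtype.val h1
  have hconst : LinearMap.ker Φ ≤ Submodule.span F {fun _ => (1 : F)} := by
    intro f hf
    rw [Submodule.mem_span_singleton]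
    refine ⟨f (QuotientGroup.mk 1), ?_⟩
    funext x
    induction x using QuotientGroup.induction_on with
    | H g =>
      have h1 := congrFun (htriv g f hf) (QuotientGroup.mk g)
      rw [pr_apply] at h1
      have h2 : g⁻¹ • (QuotientGroup.mk g : X3 ⧸ K) = QuotientGroup.mk 1 := by
        change (QuotientGroup.mk (g⁻¹ * g) : X3 ⧸ K) = _
        rw [inv_mul_cancel]
      rw [h2] at h1
      simp [h1]
  have h1ne : (fun _ => (1 : F) : X3 ⧸ K → F) ≠ 0 := by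
    intro h
    exact one_ne_zero (congrFun h (QuotientGroup.mk 1))
  have hle : finrank F (LinearMap.ker Φ) ≤ 1 := by
    rw [← finrank_span_singleton (K := F) h1ne]
    exact Submodule.finrank_mono hconst
  refine ⟨by omega, fun h12 => ?_⟩
  have h1 : finrank F (LinearMap.ker Φ) = 1 := by omega
  have h2 : LinearMap.ker Φ = Submodule.span F {fun _ => (1 : F)} := by
    apply Submodule.eq_of_le_of_finrank_eq hconst
    rw [h1, finrank_span_singleton h1ne]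
  have h4 : (fun _ => (1 : F)) ∈ LinearMap.ker Φ := by
    rw [h2]; exact Submodule.mem_span_singleton_self _
  rw [LinearMap.mem_ker, hΦ] at h4
  rw [finsum_eq_sum_of_fintype]
  simpa using h4

end

end Cfsg.Agent.H175.LD
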