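import Cfsg.Agent.H175.LD.Core33
import Cfsg.Agent.H919.QuadTwo
import Cfsg.Agent.H114.TyTwo

/-!
# The 12-dimensional cores isomorphic to `L₃(3)` (helper175)

* `exists_sys` : 13 vectors with sum zero permuted by `P` as the points (or the lines);
* `fixQ`, `not_fixA` (`p` odd), `ne_thirteen`, `not_plus` (`p = 2`);
* `exists_sub` : a subgroup of index 13 with a fixed vector, two double cosets.
-/

set_option autoImplicit false
set_option linter.unusedSectionVars false

namespace Cfsg.Agent.H175.L33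

open Matrix Cfsg Cfsg.Geo Cfsg.Agent.H915.LD
open Cfsg.Agent.H175.LD (X3 Irr FB NoP P1s P2s cv U wl Up bruhat U_P1 U_P2 n1 n2)

universe u v

/-! ### group theory -/

theorem wl_P1' : ∀ w, wl w ∉ P1s → ∃ k ∈ [1, n2], ∃ k' ∈ [1, n2], wl w = k * n1 * k' := by decide +kernel

theorem wl_P2' : ∀ w, wl w ∉ P2s → ∃ k ∈ [1, n1], ∃ k' ∈ [1, n1], wl w = k * n2 * k' := by decide +kernel

/-- the structure used of the two subgroups of index 13 -/
structure Good (K : Subgroup X3) (n : X3) : Prop where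
  index : K.index = 13
  not_mem : n ∉ K
  sq : n * n ∈ K
  dc : ∀ g ∉ K, ∃ k ∈ K, ∃ k' ∈ K, g = k * n * k'

theorem n2_P1 : n2 ∈ P1s := by decide

theorem n1_P2 : n1 ∈ P2s := by decide

theorem good_P1 : Good P1s n1 := by
  refine ⟨LD.index_P1, by decide, by rw [LD.n1_sq]; decide, fun g hg => ?_⟩
  obtain ⟨i, j, k, w, b, hb, rfl⟩ := bruhat g
  have h1 : wl w ∉ P1s := by
    intro h
    exact hg (P1s.mul_mem (P1s.mul_mem (U_P1 i j k) h) hb.P1)
  obtain ⟨x, hx, y, hy, hxy⟩ := wl_P1' w h1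
  have hmem : ∀ z ∈ [1, n2], z ∈ P1s := by
    intro z hz
    rw [List.mem_cons, List.mem_singleton] at hz
    rcases hz with rfl | rfl
    · exact P1s.one_mem
    · exact n2_P1
  exact ⟨U i j k * x, P1s.mul_mem (U_P1 i j k) (hmem x hx), y * b, P1s.mul_mem (hmem y hy) hb.P1, by
    rw [hxy]; group⟩

theorem good_P2 : Good P2s n2 := by
  refine ⟨LD.index_P2, by decide, by rw [LD.n2_sq]; decide, fun g hg => ?_⟩
  obtain ⟨i, j, k, w, b, hb, rfl⟩ := bruhat g
  have h1 : wl w ∉ P2s := by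
    intro h
    exact hg (P2s.mul_mem (P2s.mul_mem (U_P2 i j k) h) hb.P2)
  obtain ⟨x, hx, y, hy, hxy⟩ := wl_P2' w h1
  have hmem : ∀ z ∈ [1, n1], z ∈ P2s := by
    intro z hz
    rw [List.mem_cons, List.mem_singleton] at hz
    rcases hz with rfl | rfl
    · exact P2s.one_mem
    · exact n1_P2
  exact ⟨U i j k * x, P2s.mul_mem (U_P2 i j k) (hmem x hx), y * b, P2s.mul_mem (hmem y hy) hb.P2, by
    rw [hxy]; group⟩

/-- an element of order 13 -/
def sg : X3 := ⟨!![0, 0, 1; 1, 0, 1; 0, 1, 0], by decide⟩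

theorem sg_pow : sg ^ 13 = 1 := by decide +kernel

theorem sg_col : ∀ x y z : ZMod 3, ∀ c : ZMod 3, sg.1 *ᵥ ![x, y, z] = c • ![x, y, z] → x = 0 ∧ y = 0 ∧ z = 0 := by
  decide +kernel

theorem sg_row : ∀ x y z : ZMod 3, ∀ c : ZMod 3, ![x, y, z] ᵥ* sg.1 = c • ![x, y, z] → x = 0 ∧ y = 0 ∧ z = 0 := by
  decide +kernel

theorem sg_P1 (g : X3) : g⁻¹ * sg * g ∉ P1s := by
  intro h
  obtain ⟨h1, h2⟩ := h
  set h' := g⁻¹ * sg * g with hh
  have e : sg * g = g * h' := by rw [hh]; group
  have key : sg.1 *ᵥ ![g.1 0 0, g.1 1 0, g.1 2 0] = h'.1 0 0 • ![g.1 0 0, g.1 1 0, g.1 2 0] := by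
    funext r
    rw [LD.mulVec_col, e]
    change (g.1 * h'.1) r 0 = _
    rw [Matrix.mul_apply, Fin.sum_univ_three, h1, h2]
    fin_cases r <;> simp [mul_comm]
  obtain ⟨g1, g2, g3⟩ := sg_col _ _ _ _ key
  have := g.2
  rw [Matrix.det_fin_three, g1, g2, g3] at this
  simp at this

theorem sg_P2 (g : X3) : g⁻¹ * sg * g ∉ P2s := by
  intro h
  obtain ⟨h1, h2⟩ := h
  set h' := g⁻¹ * sg * g with hh
  have e : g⁻¹ * sg = h' * g⁻¹ := by rw [hh]; group
  set k := g⁻¹ with hk
  have key : ![k.1 2 0, k.1 2 1, k.1 2 2] ᵥ* sg.1 = h'.1 2 2 • ![k.1 2 0, k.1 2 1, k.1 2 2] := by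
    funext r
    have e1 : (![k.1 2 0, k.1 2 1, k.1 2 2] ᵥ* sg.1) r = (k.1 * sg.1) 2 r := by
      rw [Matrix.mul_apply, Matrix.vecMul, dotProduct]
      simp [Fin.sum_univ_three]
    have e2 : (k.1 * sg.1) 2 r = (h'.1 * k.1) 2 r := congrFun (congrFun (congrArg Subtype.val e) 2) r
    rw [e1, e2, Matrix.mul_apply, Fin.sum_univ_three, h1, h2]
    fin_cases r <;> simp
  obtain ⟨g1, g2, g3⟩ := sg_row _ _ _ _ key
  have := k.2
  rw [Matrix.det_fin_three, g1, g2, g3] at this
  simp at this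

/-- translates of a point under the element of order 13 -/
theorem sg_bij {K : Subgroup X3} (hK : K = P1s ∨ K = P2s) (x : X3 ⧸ K) :
    Function.Bijective (fun i : Fin 13 => sg ^ (i : ℕ) • x) := by
  have hidx : K.index = 13 := by
    rcases hK with rfl | rfl
    · exact LD.index_P1
    · exact LD.index_P2
  have hfi : Finite (X3 ⧸ K) := Nat.finite_of_card_ne_zero (by
    change K.index ≠ 0
    rw [hidx]; norm_num)
  have hfix : ∀ y : X3 ⧸ K, sg • y ≠ y := by
    intro y
    induction y using QuotientGroup.induction_on with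
    | H g =>
      intro h
      have h1 : (QuotientGroup.mk (sg * g) : X3 ⧸ K) = QuotientGroup.mk g := h
      have h2 := QuotientGroup.eq.1 h1.symm
      rw [← mul_assoc] at h2
      rcases hK with rfl | rfl
      · exact sg_P1 g h2
      · exact sg_P2 g h2
  have hinj : Function.Injective (fun i : Fin 13 => sg ^ (i : ℕ) • x) := by
    intro i j hij
    by_contra hne
    change sg ^ (i : ℕ) • x = sg ^ (j : ℕ) • x at hij
    -- a power with exponent prime to 13 fixes x
    have key : ∀ a b : ℕ, a < b → b < 13 → sg ^ a • x = sg ^ b • x → False := by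
      intro a b hab hb h
      have h1 : sg ^ (b - a) • x = x := by
        have h2 : sg ^ b = sg ^ a * sg ^ (b - a) := by rw [← pow_add]; congr 1; omega
        rw [h2, mul_smul] at h
        exact (smul_left_cancel _ h).symm
      have hcop : Nat.Coprime (b - a) 13 := by
        rw [Nat.coprime_comm]
        exact (Nat.Prime.coprime_iff_not_dvd (by norm_num)).2 fun hd => by
          have := Nat.le_of_dvd (by omega) hd
          omega
      have h13 : sg ^ 13 • x = x := by rw [sg_pow, one_smul]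
      have h3 : sg ∈ MulAction.stabilizer X3 x := by
        have h4 : sg ^ (b - a) ∈ MulAction.stabilizer X3 x := h1
        have h5 : (sg ^ (b - a)) ^ (b - a).gcdA 13 * (sg ^ 13) ^ (b - a).gcdB 13 = sg := by
          rw [← zpow_natCast, ← zpow_natCast, ← _root_.zpow_mul, ← _root_.zpow_mul, ← _root_.zpow_add, ← Nat.gcd_eq_gcd_ab, hcop.gcd_eq_one]
          simp
        rw [← h5]
        exact Subgroup.mul_mem _ (Subgroup.zpow_mem _ h4 _) (Subgroup.zpow_mem _ h13 _)
      exact hfix x h3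
    rcases lt_or_gt_of_ne (fun h => hne (Fin.ext h) : (i : ℕ) ≠ j) with h | h
    · exact key _ _ h j.2 hij
    · exact key _ _ h i.2 hij.symm
  have hc : Nat.card (X3 ⧸ K) = 13 := hidx
  have : Fintype (X3 ⧸ K) := Fintype.ofFinite _
  exact (Fintype.bijective_iff_injective_and_card _).2 ⟨hinj, by
    rw [Fintype.card_fin, ← Nat.card_eq_fintype_card, hc]⟩

/-! ### the 13 vectors -/

variable {ι : Type} [Fintype ι] [DecidableEq ι] {F : Type u} [Field F] [Finite F] {P : Subgroup (GL ι F)}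

/-- 13 vectors permuted as the cosets of `K` -/
structure Sys13 (φ : X3 ≃* P) (K : Subgroup X3) (w : X3 ⧸ K → (ι → F)) : Prop where
  hK : K = P1s ∨ K = P2s
  span : Submodule.span F (Set.range w) = ⊤
  sum : ∑ᶠ x, w x = 0
  smul : ∀ g x, ((φ g : P) : GL ι F).1 *ᵥ w x = w (g • x)

theorem exists_sys (hC : Core P) (φ : X3 ≃* P) {p : ℕ} [hp : Fact p.Prime] [CharP F p] (hp3 : p ≠ 3)
    (hn : Fintype.card ι = 12) : ∃ (K : Subgroup X3) (w : X3 ⧸ K → (ι → F)), Sys13 φ K w := by
  have h3 : (3 : F) ≠ 0 := three_ne hp3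
  have hfr : Module.finrank F (ι → F) = Fintype.card ι := Module.finrank_fintype_fun_eq_card F
  rcases LD.main h3 (rep_irr hC φ) (rep_nt hC φ) (by rw [hfr, hn]) with
    ⟨h11, -⟩ | ⟨h12, K, hK, v, hv0, hv, hsum⟩
  · omega
  · exact ⟨K, cv (rep φ) K v, hK, LD.span_cv (rep_irr hC φ) hv0 hv, hsum, fun g x => LD.cv_smul hv g x⟩

/-- a basis of `dim V` of the vectors -/
theorem exists_basis {V : Type*} [AddCommGroup V] [Module F V] [FiniteDimensional F V]
    {Q : Type*} [Fintype Q] [DecidableEq Q] {w : Q → V} (hspan : Submodule.span F (Set.range w) = ⊤)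
    (hcard : Fintype.card Q = Module.finrank F V + 1) (hsum : ∑ x, w x = 0) (x0 : Q) :
    ∃ b : Module.Basis {x // x ≠ x0} F V, ∀ x, b x = w x := by
  have hw0 : w x0 = -∑ x : {x // x ≠ x0}, w x := by
    have h1 := Fintype.sum_eq_add_sum_subtype_ne w x0
    rw [hsum] at h1
    exact (neg_eq_of_add_eq_zero_left h1.symm).symm
  have hsp : ⊤ ≤ Submodule.span F (Set.range fun x : {x // x ≠ x0} => w x) := by
    rw [← hspan, Submodule.span_le]
    rintro _ ⟨x, rfl⟩
    by_cases hx : x = x0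
    · subst hx
      rw [hw0]
      exact Submodule.neg_mem _ (Submodule.sum_mem _ fun y _ => Submodule.subset_span ⟨y, rfl⟩)
    · exact Submodule.subset_span ⟨⟨x, hx⟩, rfl⟩
  have hc : Fintype.card {x // x ≠ x0} = Module.finrank F V := by
    rw [Fintype.card_subtype_compl, Fintype.card_subtype_eq, hcard, Nat.add_sub_cancel]
  exact ⟨basisOfTopLeSpanOfCardEqFinrank _ hsp hc, fun x => by rw [coe_basisOfTopLeSpanOfCardEqFinrank]⟩

section sys

variable {φ : X3 ≃* P} {K : Subgroup X3} {w : X3 ⧸ K → (ι → F)}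

theorem Sys13.good (S : Sys13 φ K w) : ∃ n, Good K n := by
  rcases S.hK with rfl | rfl
  · exact ⟨_, good_P1⟩
  · exact ⟨_, good_P2⟩

theorem Sys13.index (S : Sys13 φ K w) : K.index = 13 := by
  obtain ⟨n, h⟩ := S.good
  exact h.index

theorem Sys13.finite (S : Sys13 φ K w) : Finite (X3 ⧸ K) := Nat.finite_of_card_ne_zero (by
  change K.index ≠ 0
  rw [S.index]; norm_num)

theorem Sys13.ne_zero (S : Sys13 φ K w) (hn : Fintype.card ι = 12) (x : X3 ⧸ K) : w x ≠ 0 := by
  intro h0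
  have h1 : ∀ y, w y = 0 := by
    intro y
    obtain ⟨g, rfl⟩ := MulAction.exists_smul_eq X3 x y
    rw [← S.smul, h0, Matrix.mulVec_zero]
  have h2 := S.span
  rw [show Set.range w = {0} by
    ext v
    constructor
    · rintro ⟨y, rfl⟩; exact h1 y
    · rintro rfl; exact ⟨x, h0⟩, Submodule.span_zero_singleton] at h2
  have h3 : Module.finrank F (ι → F) = 12 := by rw [Module.finrank_fintype_fun_eq_card, hn]
  have h4 : Module.finrank F (ι → F) = 0 := by rw [← finrank_top F (ι → F), ← h2, finrank_bot]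
  omega

/-- **A subgroup of index 13 with a fixed vector and two double cosets.** -/
theorem exists_sub (hC : Core P) (p : ℕ) [hp : Fact p.Prime] [CharP F p] (hp3 : p ≠ 3) {K : Type v} [Field K] [Fintype K]
    (hK : Fintype.card K = 3) (e : Soc P ≃* Matrix.ProjectiveSpecialLinearGroup (Fin 3) K) (hn : Fintype.card ι = 12) :
    ∃ (L : Subgroup P) (v0 : ι → F), L.index = 13 ∧ v0 ≠ 0 ∧ (∀ k ∈ L, ((k : P) : GL ι F).1 *ᵥ v0 = v0) ∧
      (∀ g ∉ L, ∀ g' ∉ L, ∃ k ∈ L, ∃ k' ∈ L, g' = k * g * k') := by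
  obtain ⟨-, ⟨φ⟩⟩ := exists_equiv hC hK e
  obtain ⟨K', w, S⟩ := exists_sys hC φ hp3 hn
  obtain ⟨n, G⟩ := S.good
  have hmem : ∀ g : X3, φ g ∈ K'.map φ.toMonoidHom ↔ g ∈ K' := fun g => Subgroup.mem_map_iff_mem φ.injective
  refine ⟨K'.map φ.toMonoidHom, w (QuotientGroup.mk 1), ?_, S.ne_zero hn _, ?_, ?_⟩
  · rw [Subgroup.index_map_of_bijective φ.bijective, G.index]
  · rintro _ ⟨k, hk, rfl⟩
    change ((φ k : P) : GL ι F).1 *ᵥ w (QuotientGroup.mk 1) = _
    rw [S.smul]
    congr 1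
    change (QuotientGroup.mk (k * 1) : X3 ⧸ K') = QuotientGroup.mk 1
    rw [mul_one, eq_comm, QuotientGroup.eq]
    simpa using hk
  · intro g hg g' hg'
    obtain ⟨x, rfl⟩ := φ.surjective g
    obtain ⟨y, rfl⟩ := φ.surjective g'
    rw [hmem] at hg hg'
    obtain ⟨a, ha, b, hb, hab⟩ := G.dc x hg
    obtain ⟨c, hc, d, hd, hcd⟩ := G.dc y hg'
    refine ⟨φ (c * a⁻¹), (hmem _).2 (K'.mul_mem hc (K'.inv_mem ha)), φ (b⁻¹ * d), (hmem _).2
      (K'.mul_mem (K'.inv_mem hb) hd), ?_⟩
    have key : y = c * a⁻¹ * x * (b⁻¹ * d) := by rw [hab, hcd]; group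
    rw [← map_mul, ← map_mul, ← key]

/-- two different vectors can be exchanged with the standard pair -/
theorem Sys13.two (_S : Sys13 φ K w) {n : X3} (G : Good K n) {x y : X3 ⧸ K} (hxy : x ≠ y) :
    ∃ g : X3, x = g • (QuotientGroup.mk 1 : X3 ⧸ K) ∧ y = g • (QuotientGroup.mk n : X3 ⧸ K) := by
  induction x using QuotientGroup.induction_on with
  | H a =>
    induction y using QuotientGroup.induction_on with
    | H b =>
      have h1 : a⁻¹ * b ∉ K := fun h => hxy (QuotientGroup.eq.2 h)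
      obtain ⟨k, hk, k', hk', h2⟩ := G.dc _ h1
      refine ⟨a * k, ?_, ?_⟩
      · change _ = (QuotientGroup.mk (a * k * 1) : X3 ⧸ K)
        rw [QuotientGroup.eq, mul_one, inv_mul_cancel_left]
        exact hk
      · change _ = (QuotientGroup.mk (a * k * n) : X3 ⧸ K)
        rw [QuotientGroup.eq, show b = a * (a⁻¹ * b) by group, h2,
          show (a * (k * n * k'))⁻¹ * (a * k * n) = k'⁻¹ by group]
        exact K.inv_mem hk'

theorem bilin_zero {f : (ι → F) → (ι → F) → F} (hf : IsBilinearForm f)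
    (hs : Submodule.span F (Set.range w) = ⊤) (h : ∀ x y, f (w x) (w y) = 0) (u v : ι → F) : f u v = 0 := by
  have f0l : ∀ v, f 0 v = 0 := fun v => by
    have := hf.smul_left 0 0 v
    rwa [zero_smul, zero_mul] at this
  have f0r : ∀ v, f v 0 = 0 := fun v => by
    have := hf.smul_right 0 v 0
    rwa [zero_smul, zero_mul] at this
  have h1 : ∀ x v, f (w x) v = 0 := by
    intro x v
    have hv : v ∈ Submodule.span F (Set.range w) := by rw [hs]; trivial
    induction hv using Submodule.span_induction with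
    | mem y hy => obtain ⟨z, rfl⟩ := hy; exact h x z
    | zero => exact f0r _
    | add a b _ _ ha hb => rw [hf.add_right, ha, hb, add_zero]
    | smul c a _ ha => rw [hf.smul_right, ha, mul_zero]
  have hu : u ∈ Submodule.span F (Set.range w) := by rw [hs]; trivial
  induction hu using Submodule.span_induction with
  | mem y hy => obtain ⟨z, rfl⟩ := hy; exact h1 z v
  | zero => exact f0l _
  | add a b _ _ ha hb => rw [hf.add_left, ha, hb, add_zero]
  | smul c a _ ha => rw [hf.smul_left, ha, mul_zero]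

theorem Sys13.not_fixA (S : Sys13 φ K w) (hn : Fintype.card ι = 12) (h2 : (2 : F) ≠ 0) : ¬ FixA P := by
  rintro ⟨f, hf, hP⟩
  obtain ⟨n, G⟩ := S.good
  have hinv : ∀ g u v, f (((φ g : P) : GL ι F).1 *ᵥ u) (((φ g : P) : GL ι F).1 *ᵥ v) = f u v :=
    fun g u v => hP _ ⟨(φ g : P), (φ g).2, rfl⟩ u v
  have hst : f (w (QuotientGroup.mk 1)) (w (QuotientGroup.mk n)) = 0 := by
    have h1 := hinv n (w (QuotientGroup.mk 1)) (w (QuotientGroup.mk n))
    rw [S.smul, S.smul] at h1
    have e1 : n • (QuotientGroup.mk 1 : X3 ⧸ K) = QuotientGroup.mk n := by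
      change (QuotientGroup.mk (n * 1) : X3 ⧸ K) = _
      rw [mul_one]
    have e2 : n • (QuotientGroup.mk n : X3 ⧸ K) = QuotientGroup.mk 1 := by
      change (QuotientGroup.mk (n * n) : X3 ⧸ K) = _
      rw [eq_comm, QuotientGroup.eq]
      simpa using G.sq
    rw [e1, e2, hf.skew] at h1
    have h3 : (2 : F) * f (w (QuotientGroup.mk 1)) (w (QuotientGroup.mk n)) = 0 := by linear_combination -h1
    exact (mul_eq_zero.1 h3).resolve_left h2
  have hall : ∀ x y, f (w x) (w y) = 0 := by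
    intro x y
    by_cases hxy : x = y
    · rw [hxy]; exact hf.alternating _
    · obtain ⟨g, h3, h4⟩ := S.two G hxy
      rw [h3, h4, ← S.smul, ← S.smul, hinv, hst]
  have h5 := bilin_zero hf.bilinear S.span hall
  have h6 := S.ne_zero hn (QuotientGroup.mk 1)
  exact h6 (by
    by_contra hne
    obtain ⟨⟨u, hu⟩, -⟩ := hf.nondegenerate _ hne
    exact hu (h5 _ _))

end sys

end Cfsg.Agent.H175.L33
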